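import Groth.Agent.Comod33.Coeff
import Groth.Agent.Comod33.Finite
import Groth.Agent.Comod33.Points
import Groth.Agent.Comod33.CartierReduced
import Mathlib.Algebra.Lie.OfAssociative
import Mathlib.RingTheory.Filtration
import Mathlib.RingTheory.Ideal.Cotangent

/-!
The Lie algebra of ε-derivations inside the convolution algebra, its action on comodules, and
separation for connected groups in characteristic zero.
-/

set_option autoImplicit false
set_option linter.unusedSectionVars false
set_option linter.style.haveILetI false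

universe u

open TensorProduct WithConv

noncomputable section

namespace Groth.Agent.GIT36.LinRedChar0

open Groth.Agent.Comod33

attribute [local instance 100] LieRing.ofAssociativeRing

variable {k : Type u} [Field k] {B : Type u} [CommRing B] [HopfAlgebra k B]

local notation "ε" => Bialgebra.counitAlgHom k B

/-- ε-derivations -/
def IsEps (f : B →ₗ[k] k) : Prop :=
  ∀ a b, f (a * b) = Bialgebra.counitAlgHom k B a * f b + Bialgebra.counitAlgHom k B b * f a

theorem IsEps.map_one {f : B →ₗ[k] k} (hf : IsEps f) : f 1 = 0 := by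
  have h := hf 1 1
  simp at h
  exact h

theorem counit_rTensor_pair (g : B →ₗ[k] k) (a : B) :
    LinearMap.mul' k k (TensorProduct.map (CoalgebraStruct.counit (R := k) (A := B)) g
      (CoalgebraStruct.comul (R := k) a)) = g a := by
  conv_rhs => rw [← one_smul k a, ← TensorProduct.lid_tmul a (1 : k),
    ← Coalgebra.rTensor_counit_comul (R := k) a]
  generalize CoalgebraStruct.comul (R := k) a = z
  induction z with
  | zero => simp
  | add p q hp hq => simp only [map_add, hp, hq]
  | tmul p q => simp

theorem counit_lTensor_pair (g : B →ₗ[k] k) (a : B) :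
    LinearMap.mul' k k (TensorProduct.map g (CoalgebraStruct.counit (R := k) (A := B))
      (CoalgebraStruct.comul (R := k) a)) = g a := by
  conv_rhs => rw [← one_smul k a, ← TensorProduct.rid_tmul a (1 : k),
    ← Coalgebra.lTensor_counit_comul (R := k) a]
  generalize CoalgebraStruct.comul (R := k) a = z
  induction z with
  | zero => simp
  | add p q hp hq => simp only [map_add, hp, hq]
  | tmul p q => simp [mul_comm]

theorem counit_pair (a : B) :
    LinearMap.mul' k k (TensorProduct.map (CoalgebraStruct.counit (R := k) (A := B))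
      (CoalgebraStruct.counit (R := k) (A := B)) (CoalgebraStruct.comul (R := k) a)) = ε a :=
  counit_rTensor_pair _ a

theorem conv_mul_apply (f g : B →ₗ[k] k) (a : B) :
    (toConv f * toConv g).ofConv a =
      LinearMap.mul' k k (TensorProduct.map f g (CoalgebraStruct.comul (R := k) a)) := by
  rw [LinearMap.convMul_def]
  rfl

theorem conv_leibniz {f g : B →ₗ[k] k} (hf : IsEps f) (hg : IsEps g) (a b : B) :
    (toConv f * toConv g).ofConv (a * b) =
      (toConv f * toConv g).ofConv a * ε b + ε a * (toConv f * toConv g).ofConv b + f a * g b + g a * f b := by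
  have key : ∀ z w : B ⊗[k] B,
      LinearMap.mul' k k (TensorProduct.map f g (z * w)) =
        LinearMap.mul' k k (TensorProduct.map f g z) * LinearMap.mul' k k (TensorProduct.map CoalgebraStruct.counit CoalgebraStruct.counit w) +
        LinearMap.mul' k k (TensorProduct.map CoalgebraStruct.counit CoalgebraStruct.counit z) * LinearMap.mul' k k (TensorProduct.map f g w) +
        LinearMap.mul' k k (TensorProduct.map f CoalgebraStruct.counit z) * LinearMap.mul' k k (TensorProduct.map CoalgebraStruct.counit g w) +
        LinearMap.mul' k k (TensorProduct.map CoalgebraStruct.counit g z) * LinearMap.mul' k k (TensorProduct.map f CoalgebraStruct.counit w) := by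
    intro z w
    induction z with
    | zero => simp
    | add p q hp hq => simp only [add_mul, map_add, hp, hq]; ring
    | tmul p q =>
      induction w with
      | zero => simp
      | add r s hr hs => simp only [mul_add, map_add, hr, hs]; ring
      | tmul r s =>
        simp only [Algebra.TensorProduct.tmul_mul_tmul, TensorProduct.map_tmul, LinearMap.mul'_apply, hf p r,
          hg q s, Bialgebra.counitAlgHom_apply]
        ring
  rw [conv_mul_apply, conv_mul_apply, conv_mul_apply, Bialgebra.comul_mul, key, counit_pair, counit_pair,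
    counit_lTensor_pair, counit_lTensor_pair, counit_rTensor_pair, counit_rTensor_pair]

variable (k B) in
/-- the Lie algebra of the group, inside the convolution algebra -/
def lieAlg : LieSubalgebra k (WithConv (B →ₗ[k] k)) where
  carrier := {f | IsEps f.ofConv}
  add_mem' := fun {f g} hf hg a b => by
    rw [WithConv.ofConv_add, LinearMap.add_apply, LinearMap.add_apply, LinearMap.add_apply, hf, hg]
    ring
  zero_mem' := fun a b => by simp
  smul_mem' := fun c f hf a b => by
    rw [WithConv.ofConv_smul, LinearMap.smul_apply, LinearMap.smul_apply, LinearMap.smul_apply, hf,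
      smul_eq_mul, smul_eq_mul, smul_eq_mul]
    ring
  lie_mem' := fun {f g} hf hg a b => by
    simp only [Ring.lie_def, WithConv.ofConv_sub, LinearMap.sub_apply]
    have h1 := conv_leibniz hf hg a b
    have h2 := conv_leibniz hg hf a b
    rw [toConv_ofConv, toConv_ofConv] at h1 h2
    linear_combination h1 - h2

/-- the linear form underlying an element of the Lie algebra -/
abbrev fn (f : lieAlg k B) : B →ₗ[k] k := (f : WithConv (B →ₗ[k] k)).ofConv

theorem isEps_fn (f : lieAlg k B) : IsEps (fn f) := f.2

theorem fn_ext {f g : lieAlg k B} (h : ∀ a, fn f a = fn g a) : f = g :=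
  Subtype.ext (WithConv.ofConv_injective (LinearMap.ext h))

instance finite_lieAlg [Algebra.FiniteType k B] : Module.Finite k (lieAlg k B) := by
  obtain ⟨s, hs⟩ := ‹Algebra.FiniteType k B›.out
  let E : lieAlg k B →ₗ[k] (s → k) :=
    { toFun := fun f x => fn f x
      map_add' := fun f g => rfl
      map_smul' := fun c f => rfl }
  refine Module.Finite.of_injective E (fun f g h => fn_ext fun a => ?_)
  have ha : a ∈ Algebra.adjoin k (s : Set B) := hs ▸ trivial
  induction ha using Algebra.adjoin_induction with
  | mem x hx => exact congrFun h ⟨x, hx⟩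
  | algebraMap r =>
    rw [Algebra.algebraMap_eq_smul_one, map_smul, map_smul, (isEps_fn f).map_one, (isEps_fn g).map_one]
  | add x y _ _ hx hy => rw [map_add, map_add, hx, hy]
  | mul x y _ _ hx hy => rw [isEps_fn f, isEps_fn g, hx, hy]

section Action

variable (V : Type u) [AddCommGroup V] [Module k V] [HopfRep.Comod k B V]

/-- the infinitesimal action -/
def infAct : lieAlg k B →ₗ⁅k⁆ Module.End k V where
  toFun f := dact (fn f)
  map_add' f g := dact_add (fn f) (fn g)
  map_smul' c f := dact_smul c (fn f)
  map_lie' {f g} := by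
    refine LinearMap.ext fun v => ?_
    rw [Ring.lie_def, LinearMap.sub_apply, Module.End.mul_apply, Module.End.mul_apply, dact_dact, dact_dact]
    show dact (((f : WithConv (B →ₗ[k] k)) * g - (g : WithConv (B →ₗ[k] k)) * f).ofConv) v = _
    rw [WithConv.ofConv_sub, eq_sub_iff_add_eq]
    rw [← LinearMap.add_apply, ← dact_add, sub_add_cancel]

instance infModule : LieRingModule (lieAlg k B) V := LieRingModule.compLieHom V (infAct V)

instance infLieModule : LieModule k (lieAlg k B) V := LieModule.compLieHom V (infAct V)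

variable {V}

theorem lie_def (f : lieAlg k B) (v : V) : ⁅f, v⁆ = dact (fn f) v := rfl

theorem lie_mem_of_isSubcomod {U : Submodule k V} (hU : HopfRep.IsSubcomod (k := k) (A := B) U)
    (f : lieAlg k B) {u : V} (hu : u ∈ U) : ⁅f, u⁆ ∈ U :=
  (isSubcomod_iff U).1 hU _ u hu

theorem map_lie_of_isComodHom {W : Type u} [AddCommGroup W] [Module k W] [HopfRep.Comod k B W]
    {φ : V →ₗ[k] W} (hφ : Hoch.IsComodHom B φ) (f : lieAlg k B) (v : V) : φ ⁅f, v⁆ = ⁅f, φ v⁆ :=
  IsComodHom.dact hφ (fn f) v

theorem lie_eq_zero_of_fixed (f : lieAlg k B) {v : V} (hv : v ∈ HopfRep.fixedPts k B V) : ⁅f, v⁆ = 0 := by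
  rw [lie_def, dact_apply, show HopfRep.Comod.coact (k := k) (A := B) v = v ⊗ₜ[k] (1 : B) from hv, rc_tmul,
    (isEps_fn f).map_one, zero_smul]

end Action

/-- left invariant derivations -/
theorem lie_mul (f : lieAlg k B) (a b : B) : ⁅f, a * b⁆ = a * ⁅f, b⁆ + ⁅f, a⁆ * b := by
  rw [lie_def, lie_def, lie_def, dact_apply, dact_apply, dact_apply]
  show rc (fn f) (CoalgebraStruct.comul (R := k) (a * b)) =
    a * rc (fn f) (CoalgebraStruct.comul (R := k) b) + rc (fn f) (CoalgebraStruct.comul (R := k) a) * b
  have ha : rc (CoalgebraStruct.counit (R := k) (A := B)) (CoalgebraStruct.comul (R := k) a) = a := by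
    rw [show CoalgebraStruct.comul (R := k) a = HopfRep.Comod.coact (k := k) (A := B) a from rfl, ← dact_apply,
      dact_counit]
  have hb : rc (CoalgebraStruct.counit (R := k) (A := B)) (CoalgebraStruct.comul (R := k) b) = b := by
    rw [show CoalgebraStruct.comul (R := k) b = HopfRep.Comod.coact (k := k) (A := B) b from rfl, ← dact_apply,
      dact_counit]
  conv_rhs => arg 1; arg 1; rw [← ha]
  conv_rhs => arg 2; arg 2; rw [← hb]
  rw [Bialgebra.comul_mul]
  generalize CoalgebraStruct.comul (R := k) a = z
  generalize CoalgebraStruct.comul (R := k) b = w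
  induction z with
  | zero => simp
  | add p q hp hq => simp only [add_mul, map_add, hp, hq]; ring
  | tmul p q =>
    induction w with
    | zero => simp
    | add r s hr hs => simp only [mul_add, map_add, hr, hs]; ring
    | tmul r s =>
      simp only [Algebra.TensorProduct.tmul_mul_tmul, rc_tmul, isEps_fn f q s, add_smul,
        Bialgebra.counitAlgHom_apply, smul_mul_smul_comm]
      rw [mul_comm (fn f q) _]

theorem lie_one (f : lieAlg k B) : ⁅f, (1 : B)⁆ = 0 :=
  lie_eq_zero_of_fixed f (show CoalgebraStruct.comul (R := k) (1 : B) = _ by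
    rw [Bialgebra.comul_one, Algebra.TensorProduct.one_def])

theorem counit_lie (f : lieAlg k B) (a : B) : ε ⁅f, a⁆ = fn f a := by
  rw [lie_def, dact_apply]
  conv_rhs => rw [← one_smul k a, ← TensorProduct.lid_tmul a (1 : k),
    ← Coalgebra.rTensor_counit_comul (R := k) a]
  show ε (rc (fn f) (CoalgebraStruct.comul (R := k) a)) = _
  generalize CoalgebraStruct.comul (R := k) a = z
  induction z with
  | zero => simp
  | add p q hp hq => simp only [map_add, hp, hq]
  | tmul p q => simp [mul_comm]

section Separation

variable [Algebra.FiniteType k B]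

/-- coordinates at the identity -/
theorem exists_coords : ∃ (n : ℕ) (x : Fin n → B) (D : Fin n → lieAlg k B), (∀ i, ε (x i) = 0) ∧
    ∀ y, ε y = 0 → y - ∑ i, fn (D i) y • x i ∈ RingHom.ker ε ^ 2 := by
  classical
  haveI : IsNoetherianRing B := Algebra.FiniteType.isNoetherianRing k B
  set m := RingHom.ker ε with hm
  let m2 : Submodule k B := (m ^ 2).restrictScalars k
  let U : Submodule k B := m2 ⊔ Submodule.span k {1}
  obtain ⟨s, hs⟩ := ‹Algebra.FiniteType k B›.out
  let p : B →ₗ[k] B ⧸ U := U.mkQ
  have hspan : Submodule.span k (p '' (s : Set B)) = ⊤ := by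
    rw [eq_top_iff]
    rintro q -
    obtain ⟨b, rfl⟩ := U.mkQ_surjective q
    have hb : b ∈ Algebra.adjoin k (s : Set B) := hs ▸ trivial
    induction hb using Algebra.adjoin_induction with
    | mem x hx => exact Submodule.subset_span ⟨x, hx, rfl⟩
    | algebraMap r =>
      rw [show U.mkQ (algebraMap k B r) = 0 from (Submodule.Quotient.mk_eq_zero U).2
        (Submodule.mem_sup_right (Submodule.mem_span_singleton.2 ⟨r, (Algebra.algebraMap_eq_smul_one r).symm⟩))]
      exact zero_mem _
    | add x y _ _ hx hy => rw [map_add]; exact add_mem hx hy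
    | mul x y _ _ hx hy =>
      have e : U.mkQ (x * y) = ε x • U.mkQ y + ε y • U.mkQ x := by
        rw [← map_smul, ← map_smul, ← map_add, Submodule.mkQ_apply, Submodule.mkQ_apply, Submodule.Quotient.eq]
        have h2 : (x - algebraMap k B (ε x)) * (y - algebraMap k B (ε y)) ∈ m ^ 2 := by
          rw [pow_two]
          exact Ideal.mul_mem_mul (by simp [hm, RingHom.mem_ker]) (by simp [hm, RingHom.mem_ker])
        have e' : x * y - (ε x • y + ε y • x) = (x - algebraMap k B (ε x)) * (y - algebraMap k B (ε y)) +
            (-(ε x * ε y)) • (1 : B) := by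
          simp only [Algebra.smul_def, map_neg, map_mul]; ring
        rw [e']
        exact add_mem (Submodule.mem_sup_left h2)
          (Submodule.mem_sup_right (Submodule.smul_mem _ _ (Submodule.mem_span_singleton_self _)))
      rw [e]
      exact add_mem (Submodule.smul_mem _ _ hy) (Submodule.smul_mem _ _ hx)
  haveI : Module.Finite k (B ⧸ U) := ⟨⟨s.image p, by rw [Finset.coe_image, hspan]⟩⟩
  let b := Module.finBasis k (B ⧸ U)
  choose x₀ hx₀ using fun i => U.mkQ_surjective (b i)
  let x : Fin (Module.finrank k (B ⧸ U)) → B := fun i => x₀ i - algebraMap k B (ε (x₀ i))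
  have hpalg : ∀ r : k, p (algebraMap k B r) = 0 := fun r => (Submodule.Quotient.mk_eq_zero U).2
    (Submodule.mem_sup_right (Submodule.mem_span_singleton.2 ⟨r, (Algebra.algebraMap_eq_smul_one r).symm⟩))
  let D : Fin (Module.finrank k (B ⧸ U)) → lieAlg k B := fun i =>
    ⟨toConv (b.coord i ∘ₗ p), fun a c => by
      show b.coord i (p (a * c)) = ε a * b.coord i (p c) + ε c * b.coord i (p a)
      rw [← smul_eq_mul (ε a), ← smul_eq_mul (ε c), ← map_smul, ← map_smul, ← map_smul, ← map_smul, ← map_add, ← map_add]
      refine congrArg (b.coord i) ((Submodule.Quotient.eq _).2 ?_)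
      have h2 : (a - algebraMap k B (ε a)) * (c - algebraMap k B (ε c)) ∈ m ^ 2 := by
        rw [pow_two]
        exact Ideal.mul_mem_mul (by simp [hm, RingHom.mem_ker]) (by simp [hm, RingHom.mem_ker])
      have e' : a * c - (ε a • c + ε c • a) = (a - algebraMap k B (ε a)) * (c - algebraMap k B (ε c)) +
          (-(ε a * ε c)) • (1 : B) := by
        simp only [Algebra.smul_def, map_neg, map_mul]; ring
      rw [e']
      exact add_mem (Submodule.mem_sup_left h2)
        (Submodule.mem_sup_right (Submodule.smul_mem _ _ (Submodule.mem_span_singleton_self _)))⟩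
  refine ⟨_, x, D, fun i => by simp [x], fun y hy => ?_⟩
  set r := y - ∑ i, fn (D i) y • x i with hr
  have hεr : ε r = 0 := by
    rw [hr, map_sub, hy, map_sum, Finset.sum_eq_zero fun i _ => ?_, sub_zero]
    rw [map_smul, map_sub, AlgHom.commutes]
    simp
  have hU : r ∈ U := (Submodule.Quotient.mk_eq_zero U).1 (by
    show p r = 0
    rw [hr, map_sub, map_sum, sub_eq_zero]
    simp only [map_smul, x, map_sub, hpalg, sub_zero]
    conv_lhs => rw [← b.sum_repr (p y)]
    exact Finset.sum_congr rfl fun i _ => by rw [show p (x₀ i) = b i from hx₀ i]; rfl)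
  obtain ⟨q, hq, c, hc, e⟩ := Submodule.mem_sup.1 hU
  obtain ⟨t, rfl⟩ := Submodule.mem_span_singleton.1 hc
  have hq0 : ε q = 0 := Ideal.pow_le_self two_ne_zero hq
  have ht := congrArg ε e
  rw [map_add, hq0, map_smul, map_one, hεr, zero_add, smul_eq_mul, mul_one] at ht
  rw [ht, zero_smul, add_zero] at e
  exact e ▸ hq

variable [CharZero k] [IsDomain B]

/-- a space of functions vanishing at the identity, stable under derivations, is zero -/
theorem eq_bot_of_stable (N : Submodule k B) (h0 : ∀ a ∈ N, ε a = 0)
    (hst : ∀ (f : lieAlg k B), ∀ a ∈ N, ⁅f, a⁆ ∈ N) : N = ⊥ := by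
  classical
  haveI : IsNoetherianRing B := Algebra.FiniteType.isNoetherianRing k B
  obtain ⟨n, x, D, hx, hy⟩ := exists_coords (k := k) (B := B)
  set m := RingHom.ker ε with hm
  let E : B → B := fun a => ∑ i, x i * ⁅D i, a⁆
  have hE : ∀ y ∈ m, E y - y ∈ m ^ 2 := by
    intro y hym
    have e : E y - y = (∑ i, x i * (⁅D i, y⁆ - algebraMap k B (fn (D i) y))) - (y - ∑ i, fn (D i) y • x i) := by
      simp only [E, mul_sub, Finset.sum_sub_distrib, Algebra.smul_def]
      rw [Finset.sum_congr rfl fun i _ => mul_comm (algebraMap k B (fn (D i) y)) (x i)]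
      abel
    rw [e]
    refine sub_mem (Ideal.sum_mem _ fun i _ => ?_) (hy y hym)
    rw [pow_two]
    exact Ideal.mul_mem_mul (hx i) (by
      rw [hm, RingHom.mem_ker, map_sub, counit_lie, AlgHom.commutes]
      exact sub_self _)
  have hEmul : ∀ a b, E (a * b) = a * E b + E a * b := by
    intro a b
    simp only [E, lie_mul, mul_add, Finset.sum_add_distrib, Finset.mul_sum, Finset.sum_mul]
    congr 1 <;> exact Finset.sum_congr rfl fun i _ => by ring
  have hEadd : ∀ a b, E (a + b) = E a + E b := fun a b => by
    simp only [E, lie_add, mul_add, Finset.sum_add_distrib]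
  have hEpow : ∀ j : ℕ, ∀ a ∈ m ^ (j + 1), E a - ((j + 1 : ℕ) : B) * a ∈ m ^ (j + 2) := by
    intro j
    induction j with
    | zero =>
      intro a ha
      rw [pow_one] at ha
      simpa using hE a ha
    | succ j ih =>
      intro a ha
      rw [pow_succ] at ha
      induction ha using Submodule.mul_induction_on' with
      | mem_mul_mem p hp q hq =>
        have e : E (p * q) - ((j + 1 + 1 : ℕ) : B) * (p * q) =
            p * (E q - q) + (E p - ((j + 1 : ℕ) : B) * p) * q := by
          rw [hEmul]; push_cast; ring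
        rw [e]
        refine add_mem ?_ ?_
        · rw [show j + 1 + 2 = (j + 1) + 2 by omega, pow_add]
          exact Ideal.mul_mem_mul hp (hE q hq)
        · rw [show j + 1 + 2 = (j + 2) + 1 by omega, pow_succ]
          exact Ideal.mul_mem_mul (ih p hp) hq
      | add p hp q hq hp' hq' =>
        rw [hEadd, mul_add, add_sub_add_comm]
        exact add_mem hp' hq'
  have key : ∀ j : ℕ, ∀ a ∈ N, a ∈ m ^ (j + 1) := by
    intro j
    induction j with
    | zero => intro a ha; rw [pow_one]; exact h0 a ha
    | succ j ih =>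
      intro a ha
      have h1 : E a ∈ m ^ (j + 1 + 1) := Ideal.sum_mem _ fun i _ => by
        rw [pow_succ']
        exact Ideal.mul_mem_mul (hx i) (ih _ (hst _ a ha))
      have h2 := sub_mem h1 (hEpow j a (ih a ha))
      rw [sub_sub_cancel] at h2
      have h3 := Ideal.mul_mem_left _ (algebraMap k B ((j + 1 : ℕ) : k)⁻¹) h2
      rwa [← mul_assoc, ← map_natCast (algebraMap k B), ← map_mul,
        inv_mul_cancel₀ (Nat.cast_ne_zero.2 (Nat.succ_ne_zero j)), map_one, one_mul] at h3
  rw [Submodule.eq_bot_iff]
  intro a ha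
  have h7 : a ∈ (⨅ i : ℕ, m ^ i) := by
    rw [Ideal.mem_iInf]
    intro i
    cases i with
    | zero => simp
    | succ i => exact key i a ha
  rw [Ideal.iInf_pow_eq_bot_of_isDomain m (RingHom.ker_ne_top ε)] at h7
  exact h7

/-- a subspace stable under the Lie algebra is a subcomodule -/
theorem isSubcomod_of_lie {V : Type u} [AddCommGroup V] [Module k V] [HopfRep.Comod k B V]
    (U : Submodule k V) (hU : ∀ (f : lieAlg k B), ∀ u ∈ U, ⁅f, u⁆ ∈ U) :
    HopfRep.IsSubcomod (k := k) (A := B) U := by
  intro w hw
  rw [mem_range_rTensor_iff]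
  intro g
  rw [← Submodule.Quotient.mk_eq_zero U, ← Submodule.mkQ_apply, ← Module.forall_dual_apply_eq_zero_iff k]
  intro ψ
  let φ : V →ₗ[k] k := ψ ∘ₗ U.mkQ
  have hφ : ∀ u ∈ U, φ u = 0 := fun u hu => by
    show ψ (U.mkQ u) = 0
    rw [Submodule.mkQ_apply, (Submodule.Quotient.mk_eq_zero U).2 hu, map_zero]
  have hN : U.map (cf (A := B) φ) = ⊥ := by
    refine eq_bot_of_stable _ ?_ ?_
    · rintro _ ⟨u, hu, rfl⟩
      exact (counit_cf φ u).trans (hφ u hu)
    · rintro f _ ⟨u, hu, rfl⟩
      exact ⟨⁅f, u⁆, hU f u hu, map_lie_of_isComodHom (isComodHom_cf φ) f u⟩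
  have h0 : cf (A := B) φ w = 0 := by
    rw [← Submodule.mem_bot (R := k), ← hN]
    exact Submodule.mem_map_of_mem hw
  show φ (rc g (HopfRep.Comod.coact (k := k) (A := B) w)) = 0
  rw [← apply_lc, ← cf_apply, h0, map_zero]

/-- vectors killed by the Lie algebra are fixed -/
theorem mem_fixedPts_of_lie {V : Type u} [AddCommGroup V] [Module k V] [HopfRep.Comod k B V] {v : V}
    (hv : ∀ f : lieAlg k B, ⁅f, v⁆ = 0) : v ∈ HopfRep.fixedPts k B V := by
  show HopfRep.Comod.coact (k := k) (A := B) v = v ⊗ₜ[k] (1 : B)
  refine eq_of_lc fun φ => ?_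
  rw [lc_tmul, ← sub_eq_zero, ← Submodule.mem_bot (R := k),
    ← eq_bot_of_stable (Submodule.span k {cf (A := B) φ v - φ v • (1 : B)}) ?_ ?_]
  · exact Submodule.mem_span_singleton_self _
  · intro a ha
    obtain ⟨c, rfl⟩ := Submodule.mem_span_singleton.1 ha
    rw [map_smul, map_sub, map_smul, map_one, show ε (cf (A := B) φ v) = φ v from counit_cf φ v]
    simp
  · intro f a ha
    obtain ⟨c, rfl⟩ := Submodule.mem_span_singleton.1 ha
    simp only [lie_smul, lie_sub, ← map_lie_of_isComodHom (isComodHom_cf φ), hv, map_zero]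
    rw [lie_def f (φ v • (1 : B)), map_smul, ← lie_def, lie_one]
    simp

end Separation

end Groth.Agent.GIT36.LinRedChar0
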