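import Groth.Agent.Comod33.Coeff
import Groth.Agent.Comod33.Finite
import Groth.Agent.Comod33.Points
import Groth.Agent.Comod33.CartierReduced
import Groth.Agent.Comod33.IdentityComp
import Groth.Agent.Comod33.Push
import Groth.Agent.Comod33.Socle
import Groth.Agent.Unip38.Criterion
import Groth.Agent.SGA3a.NormalHopf
import Groth.Agent.Comod33.QuotReductive

/-!
The kernel of the semisimple representations: a normal unipotent subgroup.
-/

set_option autoImplicit false
set_option linter.unusedSectionVars false
set_option linter.style.haveILetI false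

universe u

open TensorProduct WithConv

noncomputable section

namespace Groth.Agent.GIT36.LinRedChar0

open Groth.Agent.Comod33

variable {k : Type u} [Field k] {B : Type u} [CommRing B] [HopfAlgebra k B]

/-- a minimal subcomodule of the regular comodule -/
def IsMinSub (W : Submodule k B) : Prop :=
  HopfRep.IsSubcomod (k := k) (A := B) W ∧ W ≠ ⊥ ∧ Module.Finite k W ∧
    ∀ E : Submodule k B, E ≤ W → HopfRep.IsSubcomod (k := k) (A := B) E → E = ⊥ ∨ E = W

variable (k B) in
/-- coefficients of the simple representations -/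
def ssCoef : Set B :=
  {b | ∃ (W : Submodule k B) (φ : B →ₗ[k] k) (w : B), IsMinSub W ∧ w ∈ W ∧ b = cf (A := B) φ w}

variable (k B) in
/-- the ideal of the kernel of the simple representations -/
def ssIdeal : Ideal B :=
  Ideal.span ((fun b => b - algebraMap k B (CoalgebraStruct.counit (R := k) b)) '' ssCoef k B)

theorem mk_ssCoef {b : B} (hb : b ∈ ssCoef k B) :
    Ideal.Quotient.mkₐ k (ssIdeal k B) b = algebraMap k _ (CoalgebraStruct.counit (R := k) b) := by
  rw [← AlgHom.commutes (Ideal.Quotient.mkₐ k (ssIdeal k B)), Ideal.Quotient.mkₐ_eq_mk, Ideal.Quotient.eq]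
  exact Ideal.subset_span ⟨b, hb, rfl⟩

/-- points of the kernel -/
theorem kills_ssIdeal_iff {R : Type u} [CommRing R] [Algebra k R] (h : B →ₐ[k] R) :
    (∀ a ∈ ssIdeal k B, h a = 0) ↔
      ∀ W : Submodule k B, IsMinSub W → ∀ w ∈ W,
        LinearMap.lTensor B h.toLinearMap ((HopfRep.Comod.regular k B).coact w) = w ⊗ₜ[k] (1 : R) := by
  constructor
  · intro hh W hW w hw
    refine eq_of_lc fun φ => ?_
    have h1 := hh _ (Ideal.subset_span ⟨cf (A := B) φ w, ⟨W, φ, w, hW, hw, rfl⟩, rfl⟩)
    rw [map_sub, AlgHom.commutes, sub_eq_zero, counit_cf] at h1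
    rw [lc_lTensor, lc_tmul, AlgHom.toLinearMap_apply, ← cf_apply, h1, Algebra.algebraMap_eq_smul_one]
  · intro hh
    have : ssIdeal k B ≤ RingHom.ker h := by
      refine Ideal.span_le.2 ?_
      rintro _ ⟨_, ⟨W, φ, w, hW, hw, rfl⟩, rfl⟩
      show h _ = 0
      have h1 := congrArg (lc φ) (hh W hW w hw)
      rw [lc_lTensor, lc_tmul, AlgHom.toLinearMap_apply, ← cf_apply] at h1
      rw [map_sub, AlgHom.commutes, h1, counit_cf, Algebra.algebraMap_eq_smul_one, sub_self]
    exact fun a ha => this ha

/-- left factors of the comultiplication of a coefficient -/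
theorem comul_ssCoef_left {D : Submodule k B} (hD : ssCoef k B ⊆ D) {b : B} (hb : b ∈ ssCoef k B) :
    CoalgebraStruct.comul (R := k) b ∈ LinearMap.range (D.subtype.rTensor B) := by
  obtain ⟨W, φ, w, hW, hw, rfl⟩ := hb
  obtain ⟨y, hy⟩ := hW.1 w hw
  rw [comul_cf, ← hy, ← LinearMap.comp_apply ((cf (A := B) φ).rTensor B), ← LinearMap.rTensor_comp]
  have : cf (A := B) φ ∘ₗ W.subtype = D.subtype ∘ₗ
      ((cf (A := B) φ ∘ₗ W.subtype).codRestrict D fun v => hD ⟨W, φ, v, hW, v.2, rfl⟩) :=
    LinearMap.ext fun v => rfl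
  rw [this, LinearMap.rTensor_comp]
  exact ⟨_, rfl⟩

/-- right factors of the comultiplication of a coefficient -/
theorem comul_ssCoef_right {D : Submodule k B} (hD : ssCoef k B ⊆ D) {b : B} (hb : b ∈ ssCoef k B) :
    CoalgebraStruct.comul (R := k) b ∈ LinearMap.range (D.subtype.lTensor B) := by
  obtain ⟨W, φ, w, hW, hw, rfl⟩ := hb
  obtain ⟨y, hy⟩ : HopfRep.Comod.coact (k := k) (A := B) w ∈ LinearMap.range (D.subtype.lTensor B) :=
    (mem_range_lTensor_iff D _).2 fun ψ => hD ⟨W, ψ, w, hW, hw, rfl⟩
  rw [comul_cf, ← hy, ← LinearMap.comp_apply ((cf (A := B) φ).rTensor B), LinearMap.rTensor_comp_lTensor,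
    ← LinearMap.lTensor_comp_rTensor]
  exact ⟨_, rfl⟩

instance isHopfIdeal_ssIdeal : (ssIdeal k B).IsHopfIdeal k := by
  refine IdComp.isHopfIdeal_span _ ?_ ?_ ?_
  · rintro _ ⟨b, -, rfl⟩
    simp
  · rintro _ ⟨b, hb, rfl⟩
    set q := Ideal.Quotient.mkₐ k (ssIdeal k B)
    show Algebra.TensorProduct.map q q (CoalgebraStruct.comul (R := k)
      (b - algebraMap k B (CoalgebraStruct.counit (R := k) b))) = 0
    have hl : ∀ x ∈ Submodule.span k (ssCoef k B),
        q x = algebraMap k _ (CoalgebraStruct.counit (R := k) x) := by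
      intro x hx
      induction hx using Submodule.span_induction with
      | mem x hx => exact mk_ssCoef hx
      | zero => simp
      | add x y _ _ hx hy => simp only [map_add, hx, hy]
      | smul c x _ hx => rw [map_smul, hx, map_smul, smul_eq_mul, map_mul, Algebra.smul_def]
    obtain ⟨z, hz⟩ := comul_ssCoef_left (D := Submodule.span k (ssCoef k B)) Submodule.subset_span hb
    have hb1 : Algebra.TensorProduct.map q q (CoalgebraStruct.comul (R := k) b) =
        (1 : B ⧸ ssIdeal k B) ⊗ₜ[k] q b := by
      have hbz : b = TensorProduct.lid k B ((CoalgebraStruct.counit (R := k) (A := B)).rTensor B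
          ((Submodule.span k (ssCoef k B)).subtype.rTensor B z)) := by
        rw [hz, Coalgebra.rTensor_counit_comul, TensorProduct.lid_tmul, one_smul]
      conv_rhs => rw [hbz]
      rw [← hz]
      clear hz hbz
      induction z with
      | zero => simp
      | add x y hx hy => simp only [map_add, tmul_add, hx, hy]
      | tmul x y =>
        simp only [LinearMap.rTensor_tmul, Submodule.subtype_apply, Algebra.TensorProduct.map_tmul,
          TensorProduct.lid_tmul, map_smul, hl x x.2, Algebra.algebraMap_eq_smul_one, TensorProduct.smul_tmul]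
    rw [map_sub, map_sub, hb1, Algebra.algebraMap_eq_smul_one, map_smul, map_smul, Bialgebra.comul_one,
      map_one, mk_ssCoef hb, Algebra.algebraMap_eq_smul_one, tmul_smul, Algebra.TensorProduct.one_def, sub_self]
  · rintro _ ⟨b, hb, rfl⟩
    show _ ∈ ssIdeal k B
    rw [← Ideal.Quotient.eq_zero_iff_mem, ← Ideal.Quotient.mkₐ_eq_mk k]
    set q := Ideal.Quotient.mkₐ k (ssIdeal k B)
    have hl : ∀ x ∈ Submodule.span k (ssCoef k B),
        q x = algebraMap k _ (CoalgebraStruct.counit (R := k) x) := by
      intro x hx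
      induction hx using Submodule.span_induction with
      | mem x hx => exact mk_ssCoef hx
      | zero => simp
      | add x y _ _ hx hy => simp only [map_add, hx, hy]
      | smul c x _ hx => rw [map_smul, hx, map_smul, smul_eq_mul, map_mul, Algebra.smul_def]
    obtain ⟨z, hz⟩ := comul_ssCoef_left (D := Submodule.span k (ssCoef k B)) Submodule.subset_span hb
    have h1 := HopfAlgebra.mul_antipode_lTensor_comul_apply (R := k) b
    have h2 : q (LinearMap.mul' k B ((HopfAlgebraStruct.antipode (R := k) (A := B)).lTensor B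
        (CoalgebraStruct.comul (R := k) b))) = q (HopfAlgebraStruct.antipode (R := k) b) := by
      have hbz : b = TensorProduct.lid k B ((CoalgebraStruct.counit (R := k) (A := B)).rTensor B
          ((Submodule.span k (ssCoef k B)).subtype.rTensor B z)) := by
        rw [hz, Coalgebra.rTensor_counit_comul, TensorProduct.lid_tmul, one_smul]
      conv_rhs => rw [hbz]
      rw [← hz]
      clear hz hbz h1
      induction z with
      | zero => simp
      | add x y hx hy => simp only [map_add, hx, hy]
      | tmul x y =>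
        simp only [LinearMap.rTensor_tmul, Submodule.subtype_apply, LinearMap.lTensor_tmul,
          LinearMap.mul'_apply, map_mul, TensorProduct.lid_tmul, map_smul, hl x x.2, ← Algebra.smul_def]
    rw [h1, AlgHom.commutes] at h2
    show q (HopfAlgebra.antipodeAlgHom k B (b - algebraMap k B (CoalgebraStruct.counit (R := k) b))) = 0
    rw [map_sub, map_sub, AlgHom.commutes, AlgHom.commutes]
    exact sub_eq_zero.2 h2.symm

theorem isNormal_ssIdeal : SGA3.IsNormalHopfIdeal k B (ssIdeal k B) := by
  intro R _ _ g h hh a ha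
  refine (kills_ssIdeal_iff _).2 (fun W hW w hw => ?_) a ha
  refine eq_of_lc fun φ => ?_
  rw [lc_lTensor, lc_tmul, AlgHom.toLinearMap_apply, ← cf_apply]
  have htriv := (kills_ssIdeal_iff h).1 hh
  have hgh : ∀ ψ : B →ₗ[k] k, ∀ x ∈ W,
      (toConv g * toConv h).ofConv (cf (A := B) ψ x) = g (cf (A := B) ψ x) := by
    intro ψ x hx
    rw [AlgHom.convMul_apply, ofConv_toConv, ofConv_toConv, comul_cf]
    have key : ∀ t : B ⊗[k] B, Algebra.TensorProduct.lift g h (fun _ _ => Commute.all _ _)
        ((cf (A := B) ψ).rTensor B t) =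
        LinearMap.mul' k R (TensorProduct.map (g.toLinearMap ∘ₗ cf (A := B) ψ) LinearMap.id
          (h.toLinearMap.lTensor B t)) := by
      intro t
      induction t with
      | zero => simp
      | add p q hp hq => simp only [map_add, hp, hq]
      | tmul p q => simp
    rw [key, htriv W hW x hx]
    simp
  rw [← WithConv.ofConv_toConv (Dyn.conv3 k B _ _ _), SGA3a.NormalHopf.toConv_conv3]
  have hinv : toConv (g.comp (HopfAlgebra.antipodeAlgHom k B)) = (toConv g)⁻¹ := rfl
  rw [hinv]
  have e1 : (toConv g * toConv h * (toConv g)⁻¹).ofConv (cf (A := B) φ w) =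
      (toConv g * (toConv g)⁻¹).ofConv (cf (A := B) φ w) := by
    rw [AlgHom.convMul_apply, AlgHom.convMul_apply, comul_cf]
    obtain ⟨y, hy⟩ := hW.1 w hw
    rw [← hy]
    clear hy
    induction y with
    | zero => simp
    | add p q hp hq => simp only [map_add, hp, hq]
    | tmul p q =>
      simp only [LinearMap.rTensor_tmul, Submodule.subtype_apply, Algebra.TensorProduct.lift_tmul,
        hgh φ p p.2]
  rw [e1, mul_inv_cancel, AlgHom.convOne_apply, counit_cf, Algebra.algebraMap_eq_smul_one]

section Unipotent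

variable [Algebra.FiniteType k B]

/-- a point trivial on the minimal subcomodules of the regular comodule acts unipotently -/
theorem isNilpotent_act_sub_one' {g : B →ₐ[k] k}
    (hg : ∀ W : Submodule k B, IsMinSub W → ∀ w ∈ W, HopfRep.Comod.act k B B g w = w)
    (V : Type u) [AddCommGroup V] [Module k V] [c : HopfRep.Comod k B V] [Module.Finite k V] :
    IsNilpotent (HopfRep.Comod.act k B V g - 1) := by
  induction hn : Module.finrank k V using Nat.strong_induction_on generalizing V with
  | _ n ih =>
  rcases subsingleton_or_nontrivial V with hV | hV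
  · exact ⟨1, LinearMap.ext fun v => Subsingleton.elim _ _⟩
  obtain ⟨E, -, hE0, hE, hEfin, hmin⟩ :=
    exists_minimal_subcomod_le (A := B) (⊤ : Submodule k V) top_ne_bot isSubcomod_top
  -- the action on E is trivial
  have htriv : ∀ e ∈ E, HopfRep.Comod.act k B V g e = e := by
    intro e he
    by_contra hne
    obtain ⟨φ, hφ⟩ := exists_cf_ne_zero (k := k) (A := B) (sub_ne_zero.2 hne)
    have hinj : ∀ x ∈ E, cf (A := B) φ x = 0 → x = 0 := by
      intro x hx hx0
      have hsub : HopfRep.IsSubcomod (k := k) (A := B) (E ⊓ LinearMap.ker (cf (A := B) φ)) :=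
        isSubcomod_inf hE (isSubcomod_ker (isComodHom_cf φ))
      rcases hmin _ inf_le_left hsub with h | h
      · have hx' : x ∈ E ⊓ LinearMap.ker (cf (A := B) φ) := ⟨hx, hx0⟩
        rwa [h, Submodule.mem_bot] at hx'
      · refine absurd ?_ hφ
        have : HopfRep.Comod.act k B V g e - e ∈ E := sub_mem ((isSubcomod_iff E).1 hE _ e he) he
        exact (h.ge this).2
    have hW : IsMinSub (E.map (cf (A := B) φ)) := by
      refine ⟨isSubcomod_map hE (isComodHom_cf φ), ?_, Module.Finite.map E _, ?_⟩
      · intro h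
        obtain ⟨x, hx, hx0⟩ := (Submodule.ne_bot_iff E).1 hE0
        refine hx0 (hinj x hx ((Submodule.mem_bot k).1 ?_))
        exact h.le (Submodule.mem_map_of_mem hx)
      · intro F hF hFs
        rcases hmin (E ⊓ F.comap (cf (A := B) φ)) inf_le_left
          (isSubcomod_inf hE (isSubcomod_comap hFs (isComodHom_cf φ))) with h | h
        · left
          rw [Submodule.eq_bot_iff]
          intro y hy
          obtain ⟨x, hx, rfl⟩ := hF hy
          have hx' : x ∈ E ⊓ F.comap (cf (A := B) φ) := ⟨hx, hy⟩
          rw [h, Submodule.mem_bot] at hx'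
          rw [hx', map_zero]
        · right
          refine le_antisymm hF ?_
          rintro _ ⟨x, hx, rfl⟩
          exact (h.ge hx).2
    have h1 := hg _ hW _ (Submodule.mem_map_of_mem he)
    rw [act_eq_dact, ← IsComodHom.dact (isComodHom_cf φ), ← act_eq_dact] at h1
    exact hφ (by rw [map_sub, h1, sub_self])
  letI := ComodSub.Comod.quot c E hE
  have hlt : Module.finrank k (V ⧸ E) < n := by
    have h1 := Submodule.finrank_quotient_add_finrank E
    have h2 : Nontrivial E := Submodule.nontrivial_iff_ne_bot.2 hE0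
    have h3 := Module.finrank_pos (R := k) (M := E)
    omega
  obtain ⟨N, hN⟩ := ih _ hlt (V ⧸ E) rfl
  refine ⟨N + 1, LinearMap.ext fun v => ?_⟩
  have hq : Hoch.IsComodHom B E.mkQ := ComodSub.isComodHom_mkQ c E hE
  have hcomm : ∀ x, E.mkQ ((HopfRep.Comod.act k B V g - 1 : Module.End k V) x) =
      (HopfRep.Comod.act k B (V ⧸ E) g - 1 : Module.End k (V ⧸ E)) (E.mkQ x) := by
    intro x
    rw [LinearMap.sub_apply, LinearMap.sub_apply, map_sub, act_eq_dact, act_eq_dact, IsComodHom.dact hq,
      Module.End.one_apply, Module.End.one_apply]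
  have hpow : ∀ m, E.mkQ (((HopfRep.Comod.act k B V g - 1 : Module.End k V) ^ m) v) =
      ((HopfRep.Comod.act k B (V ⧸ E) g - 1 : Module.End k (V ⧸ E)) ^ m) (E.mkQ v) := by
    intro m
    induction m with
    | zero => rfl
    | succ m ihm => rw [pow_succ', pow_succ', Module.End.mul_apply, Module.End.mul_apply, hcomm, ihm]
  have h0 := hpow N
  rw [hN, LinearMap.zero_apply, Submodule.mkQ_apply, Submodule.Quotient.mk_eq_zero] at h0
  rw [pow_succ', Module.End.mul_apply, LinearMap.sub_apply, Module.End.one_apply, htriv _ h0, sub_self,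
    LinearMap.zero_apply]

variable [CharZero k] [IsAlgClosed k]

/-- the quotient by the kernel ideal is unipotent -/
theorem isUnipotent_ssIdeal : HopfRep.IsUnipotent k (B ⧸ ssIdeal k B) := by
  haveI : IsReduced (B ⧸ ssIdeal k B) := Aug.isReduced_of_charZero (k := k)
  refine Unip38.isUnipotent_of_points fun h V _ _ _ _ => ?_
  let π : B →ₐ[k] B ⧸ ssIdeal k B := Ideal.Quotient.mkₐ k (ssIdeal k B)
  let g : B →ₐ[k] k := h.comp π
  have hg : ∀ W : Submodule k B, IsMinSub W → ∀ w ∈ W, HopfRep.Comod.act k B B g w = w := by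
    intro W hW w hw
    have h1 := (kills_ssIdeal_iff g).1 (fun a ha => by
      rw [AlgHom.comp_apply, show π a = 0 from Ideal.Quotient.eq_zero_iff_mem.2 ha, map_zero]) W hW w hw
    show TensorProduct.rid k B _ = w
    rw [LinearMap.comp_apply]
    rw [show LinearMap.lTensor B g.toLinearMap (HopfRep.Comod.coact (k := k) (A := B) w) = _ from h1,
      TensorProduct.rid_tmul, one_smul]
  let bV := Module.finBasis k V
  let Q := B ⧸ ssIdeal k B
  let u : Module.End k Q := HopfRep.Comod.act k Q Q h - 1
  let uB : Module.End k B := HopfRep.Comod.act k B B g - 1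
  have hπu : ∀ b, π (uB b) = u (π b) := by
    intro b
    simp only [uB, u, LinearMap.sub_apply, map_sub, Module.End.one_apply, act_eq_dact, dact_apply]
    congr 1
    show π (rc g.toLinearMap (CoalgebraStruct.comul (R := k) b)) = rc h.toLinearMap (CoalgebraStruct.comul (R := k) (π b))
    rw [show CoalgebraStruct.comul (R := k) (π b) = Algebra.TensorProduct.map π π (CoalgebraStruct.comul (R := k) b) from
      (CoalgHomClass.map_comp_comul_apply (Bialgebra.Quotient.mkBialgHom (ssIdeal k B)) b).symm]
    generalize CoalgebraStruct.comul (R := k) b = t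
    induction t with
    | zero => simp
    | add p q hp hq => simp only [map_add, hp, hq]
    | tmul p q => simp [g, map_smul]
  classical
  choose lift hlift using fun a : Q => Ideal.Quotient.mkₐ_surjective k (ssIdeal k B) a
  let S : Finset B := Finset.univ.image fun ij : Fin (Module.finrank k V) × Fin (Module.finrank k V) =>
    lift (cf (A := Q) (bV.coord ij.1) (bV ij.2))
  haveI : Module.Finite k (Submodule.span k (S : Set B)) := Module.Finite.span_of_finite k S.finite_toSet
  obtain ⟨U, hUfin, hle, hU⟩ := exists_finite_subcomod_le (k := k) (A := B) (Submodule.span k (S : Set B))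
  letI := ComodSub.Comod.restr (HopfRep.Comod.regular k B) U hU
  obtain ⟨N, hN⟩ := isNilpotent_act_sub_one' hg U
  have hUB : ∀ m, ∀ x : U, ((uB ^ m) (x : B)) =
      (((HopfRep.Comod.act k B U g - 1 : Module.End k U) ^ m) x : B) := by
    intro m
    induction m with
    | zero => intro x; rfl
    | succ m ih =>
      intro x
      rw [pow_succ, pow_succ, Module.End.mul_apply, Module.End.mul_apply, ← ih]
      congr 1
      simp only [uB, LinearMap.sub_apply, Module.End.one_apply, Submodule.coe_sub, act_eq_dact]
      congr 1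
      exact (IsComodHom.dact (ComodSub.isComodHom_subtype (HopfRep.Comod.regular k B) U hU)
        g.toLinearMap x).symm
  have hπpow : ∀ m b, π ((uB ^ m) b) = (u ^ m) (π b) := by
    intro m
    induction m with
    | zero => intro b; rfl
    | succ m ih => intro b; rw [pow_succ, pow_succ, Module.End.mul_apply, Module.End.mul_apply, ih, hπu]
  let uV : Module.End k V := HopfRep.Comod.act k Q V h - LinearMap.id
  have hcfu : ∀ (φ : V →ₗ[k] k) m v, cf (A := Q) φ ((uV ^ m) v) = (u ^ m) (cf (A := Q) φ v) := by
    intro φ m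
    induction m with
    | zero => intro v; rfl
    | succ m ih =>
      intro v
      rw [pow_succ, pow_succ, Module.End.mul_apply, Module.End.mul_apply, ih]
      congr 1
      simp only [uV, u, LinearMap.sub_apply, map_sub, LinearMap.id_apply, Module.End.one_apply, act_eq_dact]
      congr 1
      exact IsComodHom.dact (isComodHom_cf φ) _ v
  refine ⟨N, bV.ext fun j => bV.ext_elem fun i => ?_⟩
  rw [LinearMap.zero_apply, map_zero, Finsupp.zero_apply, ← Module.Basis.coord_apply,
    ← counit_cf (A := Q) (bV.coord i), hcfu]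
  set b := lift (cf (A := Q) (bV.coord i) (bV j))
  have hb : b ∈ U := hle (Submodule.subset_span (Finset.mem_coe.2 (Finset.mem_image.2 ⟨(i, j), Finset.mem_univ _, rfl⟩)))
  rw [← hlift (cf (A := Q) (bV.coord i) (bV j)), ← hπpow, hUB N ⟨b, hb⟩, hN]
  simp

end Unipotent

section Gen

variable (k B) in
/-- the algebra generated by the coefficients of simple representations and their antipodes -/
def ssAlg : Subalgebra k B :=
  Algebra.adjoin k (ssCoef k B ∪ HopfAlgebraStruct.antipode (R := k) '' ssCoef k B)

theorem isHopfSubalgebra_ssAlg : SGA3.IsHopfSubalgebra k B (ssAlg k B) := by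
  set C := ssAlg k B with hC
  have hsub : ssCoef k B ⊆ (C.toSubmodule : Set B) := fun x hx =>
    Algebra.subset_adjoin (Or.inl hx)
  have hS : ∀ x ∈ C, HopfAlgebraStruct.antipode (R := k) x ∈ C := by
    intro x hx
    have : C ≤ C.comap (HopfAlgebra.antipodeAlgHom k B) := by
      refine Algebra.adjoin_le ?_
      rintro y (hy | ⟨z, hz, rfl⟩)
      · exact Algebra.subset_adjoin (Or.inr ⟨y, hy, rfl⟩)
      · show HopfAlgebraStruct.antipode (R := k) (HopfAlgebraStruct.antipode (R := k) z) ∈ C
        rw [Quot.antipode_antipode]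
        exact Algebra.subset_adjoin (Or.inl hz)
    exact this hx
  refine ⟨?_, hS⟩
  have hgen : ∀ x ∈ ssCoef k B, Bialgebra.comulAlgHom k B x ∈ (Algebra.TensorProduct.map C.val C.val).range := by
    intro x hx
    obtain ⟨z, hz⟩ := mem_range_map_subtype (comul_ssCoef_left hsub hx) (comul_ssCoef_right hsub hx)
    exact ⟨z, hz⟩
  have hle : C ≤ (Algebra.TensorProduct.map C.val C.val).range.comap (Bialgebra.comulAlgHom k B) := by
    refine Algebra.adjoin_le ?_
    rintro y (hy | ⟨z, hz, rfl⟩)
    · exact hgen y hy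
    · show CoalgebraStruct.comul (R := k) (HopfAlgebraStruct.antipode (R := k) z) ∈
        (Algebra.TensorProduct.map C.val C.val).range
      rw [Hopf35.comul_antipode]
      obtain ⟨w, hw⟩ := hgen z hz
      rw [show CoalgebraStruct.comul (R := k) z = _ from hw.symm]
      clear hw
      induction w with
      | zero => simp
      | add p q hp hq => simp only [map_add]; exact add_mem hp hq
      | tmul p q =>
        exact ⟨(⟨_, hS q q.2⟩ : C) ⊗ₜ[k] (⟨_, hS p p.2⟩ : C), by simp⟩
  intro b hb
  obtain ⟨z, hz⟩ := hle hb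
  exact ⟨z, hz⟩

variable (hrad : ∀ I : Ideal B, I.IsHopfIdeal k → SGA3.IsNormalHopfIdeal k B I →
  (∀ [I.IsHopfIdeal k], HopfRep.IsUnipotent k (B ⧸ I)) → I = RingHom.ker (Bialgebra.counitAlgHom k B))
variable [CharZero k] [IsAlgClosed k] [Algebra.FiniteType k B]

include hrad

theorem ssIdeal_eq : ssIdeal k B = RingHom.ker (Bialgebra.counitAlgHom k B) :=
  hrad _ isHopfIdeal_ssIdeal isNormal_ssIdeal isUnipotent_ssIdeal

/-- coefficients of simple representations and their antipodes generate -/
theorem ssAlg_eq_top : ssAlg k B = ⊤ := by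
  have h1 := SGA3a.NormalHopf.eq_coinv_augIdealSpan (isHopfSubalgebra_ssAlg (k := k) (B := B))
  refine eq_top_iff.2 fun x _ => ?_
  rw [h1]
  intro R _ _ g h hh
  have hm : ∀ a, Bialgebra.counitAlgHom k B a = 0 → h a = 0 := by
    intro a ha
    have : a ∈ ssIdeal k B := by rw [ssIdeal_eq hrad]; exact ha
    refine hh a (Ideal.span_le.2 ?_ this)
    rintro _ ⟨b, hb, rfl⟩
    exact Ideal.subset_span ⟨sub_mem (Algebra.subset_adjoin (Or.inl hb)) (Subalgebra.algebraMap_mem _ _),
      by simp⟩
  have h2 : h = (Algebra.ofId k R).comp (Bialgebra.counitAlgHom k B) := by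
    refine AlgHom.ext fun a => ?_
    have h3 := hm (a - algebraMap k B (Bialgebra.counitAlgHom k B a)) (by simp)
    rw [map_sub, AlgHom.commutes, sub_eq_zero] at h3
    exact h3
  rw [h2, show toConv ((Algebra.ofId k R).comp (Bialgebra.counitAlgHom k B)) = (1 : WithConv (B →ₐ[k] R)) from rfl,
    mul_one]

end Gen

end Groth.Agent.GIT36.LinRedChar0
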