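import Groth.Agent.GIT36.LinRedChar0.Lie
import Groth.Agent.GIT36.LinRedChar0.Inf
import Groth.Agent.GIT36.LinRedChar0.Kernel
import Groth.Agent.Comod33.Criteria
import Mathlib.LinearAlgebra.Eigenspace.Basic

/-!
A connected group in characteristic zero without normal unipotent subgroups is linearly reductive.
-/

set_option autoImplicit false
set_option linter.unusedSectionVars false
set_option linter.style.haveILetI false

universe u

open TensorProduct WithConv LieAlgebra

noncomputable section

namespace Groth.Agent.GIT36.LinRedChar0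

open Groth.Agent.Comod33

attribute [local instance 100] LieRing.ofAssociativeRing

variable {k : Type u} [Field k] {B : Type u} [CommRing B] [HopfAlgebra k B]

variable (k B) in
/-- simple subrepresentations of the regular representation -/
abbrev SimpleIdx : Type u := {W : Submodule k B // IsMinSub W}

instance subComodInst (i : SimpleIdx k B) : HopfRep.Comod k B i.1 :=
  ComodSub.Comod.restr (HopfRep.Comod.regular k B) i.1 i.2.1

theorem finite_idx (i : SimpleIdx k B) : Module.Finite k i.1 := i.2.2.2.1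

attribute [instance] finite_idx

theorem coe_lie (i : SimpleIdx k B) (f : lieAlg k B) (w : i.1) : ((⁅f, w⁆ : i.1) : B) = ⁅f, (w : B)⁆ :=
  map_lie_of_isComodHom (ComodSub.isComodHom_subtype (HopfRep.Comod.regular k B) i.1 i.2.1) f w

theorem fn_antipode (f : lieAlg k B) (a : B) :
    fn f (HopfAlgebraStruct.antipode (R := k) a) = - fn f a := by
  have h := congrArg (fn f) (HopfAlgebra.mul_antipode_lTensor_comul_apply (R := k) a)
  rw [Algebra.algebraMap_eq_smul_one, map_smul, (isEps_fn f).map_one, smul_zero] at h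
  have key : ∀ z : B ⊗[k] B, fn f (LinearMap.mul' k B ((HopfAlgebraStruct.antipode (R := k) (A := B)).lTensor B z)) =
      LinearMap.mul' k k (TensorProduct.map CoalgebraStruct.counit (fn f ∘ₗ HopfAlgebraStruct.antipode (R := k)) z) +
      LinearMap.mul' k k (TensorProduct.map (fn f) CoalgebraStruct.counit z) := by
    intro z
    induction z with
    | zero => simp
    | add p q hp hq => simp only [map_add, hp, hq]; ring
    | tmul p q =>
      simp only [LinearMap.lTensor_tmul, LinearMap.mul'_apply, TensorProduct.map_tmul, LinearMap.comp_apply,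
        isEps_fn f p, Bialgebra.counitAlgHom_apply, HopfAlgebra.counit_antipode]
      ring
  rw [key, counit_rTensor_pair, counit_lTensor_pair, LinearMap.comp_apply] at h
  exact eq_neg_of_add_eq_zero_left h

theorem lie_antipode (f : lieAlg k B) (b : B) :
    ⁅f, HopfAlgebraStruct.antipode (R := k) b⁆ =
      - HopfAlgebraStruct.antipode (R := k) (lc (fn f) (CoalgebraStruct.comul (R := k) b)) := by
  rw [lie_def, dact_apply]
  show rc (fn f) (CoalgebraStruct.comul (R := k) (HopfAlgebraStruct.antipode (R := k) b)) = _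
  rw [Hopf35.comul_antipode]
  generalize CoalgebraStruct.comul (R := k) b = z
  induction z with
  | zero => simp
  | add p q hp hq => simp only [map_add, neg_add, hp, hq]
  | tmul p q => simp [fn_antipode]

theorem lie_smul_coef (f : lieAlg k B) (c : k) (W : Submodule k B) (hW : HopfRep.IsSubcomod (k := k) (A := B) W)
    (hc : ∀ w ∈ W, ⁅f, w⁆ = c • w) (φ : B →ₗ[k] k) {w : B} (hw : w ∈ W) :
    ⁅f, cf (A := B) φ w⁆ = c • cf (A := B) φ w ∧
      ⁅f, HopfAlgebraStruct.antipode (R := k) (cf (A := B) φ w)⁆ =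
        (-c) • HopfAlgebraStruct.antipode (R := k) (cf (A := B) φ w) := by
  refine ⟨?_, ?_⟩
  · rw [← map_lie_of_isComodHom (isComodHom_cf φ), hc w hw, map_smul]
  · rw [lie_antipode, comul_cf]
    obtain ⟨y, hy⟩ := hW w hw
    have : lc (fn f) ((cf (A := B) φ).rTensor B ((HopfRep.Comod.regular k B).coact w)) =
        c • cf (A := B) φ w := by
      rw [cf_apply (φ := φ) (v := w), ← hy]
      clear hy
      induction y with
      | zero => simp
      | add p q hp hq => simp only [map_add, smul_add, hp, hq]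
      | tmul p q =>
        simp only [LinearMap.rTensor_tmul, Submodule.subtype_apply, lc_tmul]
        rw [cf_apply, apply_lc, ← dact_apply, ← lie_def, hc p p.2, map_smul, smul_eq_mul, mul_smul]
    rw [this, map_smul, neg_smul]

variable [CharZero k] [IsAlgClosed k] [Algebra.FiniteType k B] [IsDomain B]
variable (hrad : ∀ I : Ideal B, I.IsHopfIdeal k → SGA3.IsNormalHopfIdeal k B I →
  (∀ [I.IsHopfIdeal k], HopfRep.IsUnipotent k (B ⧸ I)) → I = RingHom.ker (Bialgebra.counitAlgHom k B))

instance irreducible_idx (i : SimpleIdx k B) : LieModule.IsIrreducible k (lieAlg k B) i.1 := by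
  haveI : Nontrivial i.1 := Submodule.nontrivial_iff_ne_bot.2 i.2.2.1
  refine LieModule.IsIrreducible.mk fun N hN => ?_
  have hsub : HopfRep.IsSubcomod (k := k) (A := B) (N.toSubmodule.map i.1.subtype) := by
    refine isSubcomod_of_lie _ ?_
    rintro f _ ⟨w, hw, rfl⟩
    exact ⟨⁅f, w⁆, N.lie_mem hw, coe_lie i f w⟩
  rcases i.2.2.2.2 _ (Submodule.map_subtype_le _ _) hsub with h | h
  · refine absurd ?_ hN
    rw [← LieSubmodule.toSubmodule_eq_bot, Submodule.eq_bot_iff]
    intro w hw
    have : (w : B) ∈ N.toSubmodule.map i.1.subtype := Submodule.mem_map_of_mem hw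
    rw [h, Submodule.mem_bot] at this
    exact Subtype.ext this
  · refine (LieSubmodule.toSubmodule_eq_top N).1 (eq_top_iff.2 fun w _ => ?_)
    obtain ⟨w', hw', e⟩ := h.ge w.2
    rwa [Subtype.ext e] at hw'

include hrad

theorem faithful_idx (f : lieAlg k B) (hf : ∀ (i : SimpleIdx k B) (w : i.1), ⁅f, w⁆ = 0) : f = 0 := by
  refine fn_ext fun a => ?_
  show fn f a = 0
  have hle : ssIdeal k B ≤ RingHom.ker (Bialgebra.counitAlgHom k B) := (ssIdeal_eq hrad).le
  have h1 : ∀ x ∈ ssIdeal k B, fn f x = 0 := by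
    intro x hx
    rw [ssIdeal] at hx
    induction hx using Submodule.span_induction with
    | mem y hy =>
      obtain ⟨_, ⟨W, φ, w, hW, hw, rfl⟩, rfl⟩ := hy
      rw [map_sub, Algebra.algebraMap_eq_smul_one, map_smul, (isEps_fn f).map_one, smul_zero, sub_zero,
        cf_apply, apply_lc, ← dact_apply, ← lie_def]
      have := congrArg Subtype.val (hf ⟨W, hW⟩ ⟨w, hw⟩)
      rw [coe_lie, ZeroMemClass.coe_zero] at this
      rw [this, map_zero]
    | zero => simp
    | add y z _ _ hy hz => rw [map_add, hy, hz, add_zero]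
    | smul b y hy' hy =>
      have : Bialgebra.counitAlgHom k B y = 0 := hle hy'
      rw [smul_eq_mul, isEps_fn f, hy, this]
      ring
  have h2 : a - algebraMap k B (Bialgebra.counitAlgHom k B a) ∈ ssIdeal k B := by
    rw [ssIdeal_eq hrad, RingHom.mem_ker, map_sub, AlgHom.commutes]
    exact sub_self _
  have h3 := h1 _ h2
  rwa [map_sub, Algebra.algebraMap_eq_smul_one, map_smul, (isEps_fn f).map_one, smul_zero, sub_zero] at h3

/-- central elements of the Lie algebra act semisimply -/
theorem lie_eq_zero_of_lie_lie {z : lieAlg k B} (hz : z ∈ center k (lieAlg k B)) {a : B}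
    (ha : ⁅z, ⁅z, a⁆⁆ = 0) : ⁅z, a⁆ = 0 := by
  let δ : Module.End k B := dact (fn z)
  let M : Submonoid B :=
    { carrier := {b | ∃ c : k, δ b = c • b}
      one_mem' := ⟨0, by rw [zero_smul]; exact lie_one z⟩
      mul_mem' := by
        rintro p q ⟨c, hc⟩ ⟨d, hd⟩
        refine ⟨c + d, ?_⟩
        show ⁅z, p * q⁆ = _
        rw [lie_mul, show ⁅z, p⁆ = c • p from hc, show ⁅z, q⁆ = d • q from hd, add_smul, mul_smul_comm,
          smul_mul_assoc, add_comm] }
  have hgen : ssCoef k B ∪ HopfAlgebraStruct.antipode (R := k) '' ssCoef k B ⊆ (M : Set B) := by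
    have hW : ∀ b ∈ ssCoef k B, (b ∈ M ∧ HopfAlgebraStruct.antipode (R := k) b ∈ M) := by
      rintro _ ⟨W, φ, w, hW, hw, rfl⟩
      obtain ⟨i, hi⟩ : ∃ i : SimpleIdx k B, i.1 = W := ⟨⟨W, hW⟩, rfl⟩
      subst hi
      obtain ⟨c, hc⟩ := radical_smul (M := i.1) (center_le_radical k (lieAlg k B) hz)
      obtain ⟨h1, h2⟩ := lie_smul_coef z c i.1 hW.1 (fun x hx => by
        have := congrArg Subtype.val (hc (⟨x, hx⟩ : i.1))
        rw [coe_lie] at this
        exact this) φ hw
      exact ⟨⟨c, h1⟩, ⟨-c, h2⟩⟩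
    rintro x (hx | ⟨y, hy, rfl⟩)
    · exact (hW x hx).1
    · exact (hW y hy).2
  have hspan : Submodule.span k (M : Set B) = ⊤ := by
    have h := ssAlg_eq_top hrad
    rw [ssAlg] at h
    have h' : Algebra.adjoin k (M : Set B) = ⊤ := eq_top_iff.2 (h ▸ Algebra.adjoin_mono hgen)
    rw [← Algebra.top_toSubmodule, ← h', Algebra.adjoin_eq_span, Submonoid.closure_eq]
  have hsup : (⨆ c : k, Module.End.eigenspace δ c) = ⊤ := by
    rw [eq_top_iff, ← hspan, Submodule.span_le]
    rintro b ⟨c, hc⟩
    exact Submodule.mem_iSup_of_mem c (Module.End.mem_eigenspace_iff.2 hc)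
  -- the image of δ avoids its kernel
  have hr : δ a ∈ ⨆ (c : k) (_ : c ≠ 0), Module.End.eigenspace δ c := by
    have hmem : a ∈ ⨆ c : k, Module.End.eigenspace δ c := hsup ▸ trivial
    refine Submodule.iSup_induction _ (motive := fun x => δ x ∈ ⨆ (c : k) (_ : c ≠ 0), Module.End.eigenspace δ c)
      hmem (fun c x hx => ?_) (by rw [map_zero]; exact zero_mem _)
      (fun x y hx hy => by rw [map_add]; exact add_mem hx hy)
    rw [Module.End.mem_eigenspace_iff.1 hx]
    by_cases hc : c = 0
    · rw [hc, zero_smul]; exact zero_mem _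
    · exact Submodule.smul_mem _ _ (Submodule.mem_iSup_of_mem c (Submodule.mem_iSup_of_mem hc hx))
  have h0 : δ a ∈ Module.End.eigenspace δ 0 := Module.End.mem_eigenspace_iff.2 (by rw [zero_smul]; exact ha)
  exact Submodule.disjoint_def.1 (Module.End.eigenspaces_iSupIndep δ 0) _ h0 hr

theorem exists_fixed_aux (n : ℕ) : ∀ (X : Type u) [AddCommGroup X] [Module k X] [HopfRep.Comod k B X]
    [Module.Finite k X], Module.finrank k X = n → ∀ π : X →ₗ[k] k, π ≠ 0 →
    (∀ (f : lieAlg k B) x, π ⁅f, x⁆ = 0) → ∃ v, π v ≠ 0 ∧ ∀ f : lieAlg k B, ⁅f, v⁆ = 0 := by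
  induction n using Nat.strong_induction_on with
  | _ n ih =>
  intro X _ _ c _ hn π hπ0 hπ
  by_cases hsimple : ∀ U : Submodule k X, U ≤ LinearMap.ker π → (∀ (f : lieAlg k B), ∀ u ∈ U, ⁅f, u⁆ ∈ U) →
      U = ⊥ ∨ U = LinearMap.ker π
  · by_cases hnt : ∃ (f : lieAlg k B) (w : X), w ∈ LinearMap.ker π ∧ ⁅f, w⁆ ≠ 0
    · exact exists_fixed_of_extension (fun i : SimpleIdx k B => i.1) (faithful_idx hrad) π hπ hπ0 hsimple hnt
    · push Not at hnt
      obtain ⟨x₀, hx₀⟩ : ∃ x₀, π x₀ ≠ 0 := by
        by_contra h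
        push Not at h
        exact hπ0 (LinearMap.ext h)
      refine ⟨x₀, hx₀, fun f => ?_⟩
      obtain ⟨z, hz, a, ha, rfl⟩ := center_sup_der (k := k) (fun i : SimpleIdx k B => i.1) (faithful_idx hrad) f
      have hder : ∀ d ∈ der k (lieAlg k B), ⁅d, x₀⁆ = 0 := by
        intro d hd
        rw [der_eq, ← LieSubmodule.mem_toSubmodule, LieSubmodule.lieIdeal_oper_eq_linear_span'] at hd
        induction hd using Submodule.span_induction with
        | zero => exact zero_lie _
        | add p q _ _ hp hq => rw [add_lie, hp, hq, add_zero]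
        | smul r p _ hp => rw [smul_lie, hp, smul_zero]
        | mem p hp =>
          obtain ⟨p, -, q, -, rfl⟩ := hp
          rw [lie_lie, hnt p _ (LinearMap.mem_ker.2 (hπ q x₀)), hnt q _ (LinearMap.mem_ker.2 (hπ p x₀)), sub_self]
      rw [add_lie, hder a ha, add_zero]
      refine (Module.forall_dual_apply_eq_zero_iff k _).1 fun φ => ?_
      rw [← counit_cf (A := B) φ, map_lie_of_isComodHom (isComodHom_cf φ)]
      rw [lie_eq_zero_of_lie_lie hrad hz, map_zero]
      rw [← map_lie_of_isComodHom (isComodHom_cf φ), ← map_lie_of_isComodHom (isComodHom_cf φ),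
        hnt z _ (LinearMap.mem_ker.2 (hπ z x₀)), map_zero]
  · push Not at hsimple
    obtain ⟨U, hle, hst, hU0, hUne⟩ := hsimple
    have hU := isSubcomod_of_lie U hst
    letI := ComodSub.Comod.quot c U hU
    have hq : Hoch.IsComodHom B U.mkQ := ComodSub.isComodHom_mkQ c U hU
    have hUpos : 0 < Module.finrank k U := by
      haveI := Submodule.nontrivial_iff_ne_bot.2 hU0
      exact Module.finrank_pos
    have hlt : Module.finrank k (X ⧸ U) < n := by
      have := Submodule.finrank_quotient_add_finrank U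
      omega
    let πq : X ⧸ U →ₗ[k] k := U.liftQ π hle
    obtain ⟨q, hq0, hqf⟩ := ih _ hlt (X ⧸ U) rfl πq
      (fun h => hπ0 (LinearMap.ext fun x => (LinearMap.congr_fun h (U.mkQ x) : _))) (fun f y => by
        obtain ⟨x, rfl⟩ := U.mkQ_surjective y
        rw [← map_lie_of_isComodHom hq]
        exact hπ f x)
    obtain ⟨v, rfl⟩ := U.mkQ_surjective q
    let X' : Submodule k X := Submodule.span k {v} ⊔ U
    have hX' : ∀ (f : lieAlg k B), ∀ x ∈ X', ⁅f, x⁆ ∈ U := by
      intro f x hx
      obtain ⟨p, hp, u, hu, rfl⟩ := Submodule.mem_sup.1 hx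
      obtain ⟨r, rfl⟩ := Submodule.mem_span_singleton.1 hp
      rw [lie_add, lie_smul]
      refine add_mem (Submodule.smul_mem _ _ ?_) (hst f u hu)
      rw [← Submodule.Quotient.mk_eq_zero U, ← Submodule.mkQ_apply, map_lie_of_isComodHom hq, hqf]
    have hX's := isSubcomod_of_lie X' fun f x hx => Submodule.mem_sup_right (hX' f x hx)
    letI := ComodSub.Comod.restr c X' hX's
    have hι : Hoch.IsComodHom B X'.subtype := ComodSub.isComodHom_subtype c X' hX's
    have hlt' : Module.finrank k X' < n := by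
      have h1 : Module.finrank k X' ≤ Module.finrank k (Submodule.span k {v}) + Module.finrank k U :=
        (Nat.le_add_right _ _).trans (Submodule.finrank_sup_add_finrank_inf_eq _ _).le
      have h2 : Module.finrank k (Submodule.span k ({v} : Set X)) ≤ 1 := (finrank_span_le_card _).trans (by simp)
      have h3 : Module.finrank k U < Module.finrank k (LinearMap.ker π) :=
        Submodule.finrank_lt_finrank_of_lt (lt_of_le_of_ne hle hUne)
      have h4 : Module.finrank k (LinearMap.range π) + Module.finrank k (LinearMap.ker π) = n :=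
        hn ▸ LinearMap.finrank_range_add_finrank_ker π
      have h5 : 0 < Module.finrank k (LinearMap.range π) := by
        rw [Nat.pos_iff_ne_zero, ne_eq, Submodule.finrank_eq_zero, LinearMap.range_eq_bot]
        exact hπ0
      omega
    have hπv : π v ≠ 0 := hq0
    obtain ⟨w, hw0, hwf⟩ := ih _ hlt' X' rfl (π ∘ₗ X'.subtype)
      (fun h => hπv (LinearMap.congr_fun h ⟨v, Submodule.mem_sup_left (Submodule.mem_span_singleton_self v)⟩))
      (fun f x => by
        rw [LinearMap.comp_apply, map_lie_of_isComodHom hι]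
        exact hπ f _)
    exact ⟨w, hw0, fun f => by rw [← Submodule.subtype_apply, ← map_lie_of_isComodHom hι, hwf, map_zero]⟩

theorem isLinearlyReductive_of_hrad : HopfRep.IsLinearlyReductive k B := by
  refine isLinearlyReductive_of_trivialQuotient fun X _ _ _ _ π hπs hπc => ?_
  have hπ0 : π ≠ 0 := by
    rintro rfl
    obtain ⟨x, hx⟩ := hπs 1
    exact zero_ne_one hx
  have hπ : ∀ (f : lieAlg k B) x, π ⁅f, x⁆ = 0 := by
    intro f x
    rw [lie_def, dact_apply, ← rc_rTensor, ← LinearMap.comp_apply (π.rTensor B), hπc]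
    show rc (fn f) (π x ⊗ₜ[k] (1 : B)) = 0
    rw [rc_tmul, (isEps_fn f).map_one, zero_smul]
  obtain ⟨v, hv0, hv⟩ := exists_fixed_aux hrad _ X rfl π hπ0 hπ
  exact ⟨v, mem_fixedPts_of_lie hv, hv0⟩

end Groth.Agent.GIT36.LinRedChar0
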