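import Groth.Agent.GIT36.LinRedChar0.Inf
import Groth.Agent.Unip34.LieSep
import Groth.Agent.Comod33.Diag
import Groth.Agent.Comod33.Connected
import Groth.Agent.GMod80.Dict
import Groth.Agent.GMod80.NoTorus
import Groth.Agent.RedPts82.TorusBasic
import Groth.Agent.GIT36.Mu.TorusChars
import Groth.Agent.Cartier57.Reduced

/-!
Unipotent groups in characteristic zero are connected and contain no torus.
-/

set_option autoImplicit false
set_option linter.unusedSectionVars false
set_option linter.style.haveILetI false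

universe u

open CategoryTheory CategoryTheory.Limits MonoidalCategory CartesianMonoidalCategory MonObj GrpObj AlgebraicGeometry
open scoped TensorProduct
open Groth.Agent.FinSub96
open WithConv TensorProduct

noncomputable section

namespace Groth.Agent.GIT36.LinRedChar0

open Groth.Agent.Comod33

variable {k : Type u} [Field k] {Q : Type u} [CommRing Q] [HopfAlgebra k Q]

/-- a unipotent group maps trivially to a group without additive functions -/
theorem bialgHom_eq_counit_of_unipotent (hQ : HopfRep.IsUnipotent k Q) {C : Type u} [CommRing C]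
    [HopfAlgebra k C] (π : Q →ₐc[k] C) (hC : ∀ p : C, Diag.IsPrim (k := k) p → p = 0) (a : Q) :
    π a = algebraMap k C (Bialgebra.counitAlgHom k Q a) := by
  have hmem : a ∈ ⨆ i, soc k Q Q i := by rw [iSup_soc_eq_top hQ]; trivial
  obtain ⟨n, hn⟩ := (Submodule.mem_iSup_of_directed _ soc_mono.directed_le).1 hmem
  clear hmem
  induction n generalizing a with
  | zero => rw [(Submodule.mem_bot k).1 hn, map_zero, map_zero, map_zero]
  | succ n ih =>
    let π' : Q →ₗ[k] C := ((π : Q →ₐ[k] C)).toLinearMap
    obtain ⟨y, hy⟩ := mem_soc_succ.1 hn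
    have hw : TensorProduct.map π' π' ((soc k Q Q n).subtype.rTensor Q y) = (1 : C) ⊗ₜ[k] π'
        (TensorProduct.lid k Q ((CoalgebraStruct.counit (R := k) (A := Q)).rTensor Q ((soc k Q Q n).subtype.rTensor Q y))) := by
      clear hy
      induction y with
      | zero => simp
      | add p q hp hq => simp only [map_add, TensorProduct.tmul_add, hp, hq]
      | tmul p q =>
        simp only [LinearMap.rTensor_tmul, Submodule.subtype_apply, TensorProduct.map_tmul, TensorProduct.lid_tmul,
          map_smul]
        rw [show π' (p : Q) = algebraMap k C (Bialgebra.counitAlgHom k Q (p : Q)) from ih _ p.2,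
          Algebra.algebraMap_eq_smul_one, TensorProduct.smul_tmul]
        rfl
    have hmap : CoalgebraStruct.comul (R := k) (π' a) = TensorProduct.map π' π' (CoalgebraStruct.comul (R := k) a) :=
      (CoalgHomClass.map_comp_comul_apply π a).symm
    rw [hy] at hw
    have hc : HopfRep.Comod.coact (k := k) (A := Q) a = CoalgebraStruct.comul (R := k) a := rfl
    simp only [hc, map_sub, Coalgebra.rTensor_counit_comul, LinearMap.rTensor_tmul, TensorProduct.map_tmul,
      TensorProduct.lid_tmul, one_smul, map_smul] at hw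
    rw [← hmap, show π' (1 : Q) = 1 from map_one (π : Q →ₐ[k] C), TensorProduct.tmul_sub] at hw
    let p := π' a - algebraMap k C (Bialgebra.counitAlgHom k Q a)
    have hp : Diag.IsPrim (k := k) p := by
      show CoalgebraStruct.comul (R := k) p = p ⊗ₜ[k] (1 : C) + (1 : C) ⊗ₜ[k] p
      simp only [p, map_sub, Algebra.algebraMap_eq_smul_one, map_smul, Bialgebra.comul_one,
        Algebra.TensorProduct.one_def, TensorProduct.sub_tmul, TensorProduct.tmul_sub, TensorProduct.smul_tmul',
        Bialgebra.counitAlgHom_apply]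
      rw [sub_eq_iff_eq_add.1 hw]
      simp only [TensorProduct.smul_tmul, TensorProduct.tmul_smul]
      abel
    exact sub_eq_zero.1 (hC p hp)

variable [IsAlgClosed k] [CharZero k]

/-- unipotent groups in characteristic zero are connected -/
theorem idem_of_unipotent [Algebra.FiniteType k Q] (hQ : HopfRep.IsUnipotent k Q) (e : Q)
    (he : IsIdempotentElem e) : e = 0 ∨ e = 1 := by
  have hder : ∀ D : LieHopf.Lie k Q, dact (A := Q) (V := Q) (LieHopf.dlin D) e = 0 := by
    intro D
    let f : lieAlg k Q := ⟨toConv (LieHopf.dlin D), LieHopf.dlin_mul D⟩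
    show ⁅f, e⁆ = 0
    have h := lie_mul f e e
    rw [he.eq] at h
    have h2 : e * ⁅f, e⁆ = 0 := by
      have := congrArg (fun x => e * x) h
      simp only [mul_add] at this
      rw [← _root_.mul_assoc, he.eq, mul_comm ⁅f, e⁆ e, ← _root_.mul_assoc, he.eq] at this
      exact left_eq_add.1 this
    rw [mul_comm ⁅f, e⁆ e, h2, add_zero] at h
    exact h
  have h0 : e - algebraMap k Q (Bialgebra.counitAlgHom k Q e) = 0 := by
    refine Unip34.eq_zero_of_iterD hQ fun L => ?_
    cases L with
    | nil =>
      show Bialgebra.counitAlgHom k Q (e - _) = 0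
      rw [map_sub, AlgHom.commutes]
      exact sub_self _
    | cons D L =>
      show Bialgebra.counitAlgHom k Q (Unip34.iterD L (dact (A := Q) (V := Q) (LieHopf.dlin D) _)) = 0
      rw [map_sub, hder, Algebra.algebraMap_eq_smul_one, map_smul]
      have h1 : dact (A := Q) (V := Q) (LieHopf.dlin D) (1 : Q) = 0 := by
        show rc (LieHopf.dlin D) (CoalgebraStruct.comul (R := k) (1 : Q)) = 0
        rw [Bialgebra.comul_one, Algebra.TensorProduct.one_def, rc_tmul, LieHopf.dlin_one, zero_smul]
      rw [h1, smul_zero, sub_zero, map_zero, map_zero]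
  rw [sub_eq_zero] at h0
  rcases IsIdempotentElem.iff_eq_zero_or_one.1 (he.map (Bialgebra.counitAlgHom k Q)) with h | h
  · left; rw [h0, h, map_zero]
  · right; rw [h0, h, map_one]

omit [IsAlgClosed k] [CharZero k] in
set_option backward.isDefEq.respectTransparency.types false in
theorem locallyOfFiniteType_DS (U : Scheme.{u}) (r : ℕ) :
    LocallyOfFiniteType (Red.DS U (Fin r → ℤ)).hom :=
  have : MorphismProperty.IsStableUnderBaseChange (@LocallyOfFiniteType : MorphismProperty Scheme.{u}) :=
    locallyOfFiniteType_isStableUnderBaseChange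
  MorphismProperty.pullback_snd (P := (@LocallyOfFiniteType : MorphismProperty Scheme.{u})) _ _ (by
    show LocallyOfFiniteType (Spec.map (CommRingCat.ofHom (algebraMap (ULift.{u} ℤ)
      (MonoidAlgebra (ULift.{u} ℤ) (Multiplicative (Fin r → ℤ))))))
    rw [HasRingHomProperty.Spec_iff (P := @LocallyOfFiniteType)]
    exact RingHom.finiteType_algebraMap.2 inferInstance)

/-- coordinates of a torus are diagonalizable -/
theorem isDiagonalizable_coord {T : Over (Spec (CommRingCat.of k))} [GrpObj T] (hT : Red.IsTorus T)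
    {C : Type u} [CommRing C] [HopfAlgebra k C] (ψ : GMod80.sp k C ≅ T) [IsMonHom ψ.hom] :
    HopfRep.IsDiagonalizable k C := by
  haveI : IsZariskiLocalAtTarget (@LocallyOfFiniteType : MorphismProperty Scheme.{u}) :=
    HasRingHomProperty.instIsZariskiLocalAtTarget _
  haveI : LocallyOfFiniteType T.hom :=
    RedPts82.isTorus_prop (@LocallyOfFiniteType) hT locallyOfFiniteType_DS
  haveI := GMod80.finiteType ψ
  haveI : IsReduced C := Aug.isReduced_of_charZero (k := k)
  have hspan := Mu.span_charFn_eq_top hT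
  have hval : ∀ (g : WithConv (C →ₐ[k] k)) (a : C),
      Mu.gv (Tori96.spUnit.inv ≫ GMod80.e ψ k g) (GMod80.fn ψ a) = g.ofConv a := by
    intro g a
    rw [Mu.gv_comp, GMod80.appTop_fn]
    change (Scheme.ΓSpecIso (CommRingCat.of k)).hom ((Tori96.spUnit (K := k)).inv.left.appTop _) = _
    change (Scheme.ΓSpecIso (CommRingCat.of k)).hom
      ((Scheme.Hom.appTop (𝟙 (Spec (CommRingCat.of k)))) ((Scheme.ΓSpecIso (CommRingCat.of k)).inv (g.ofConv a))) = _
    rw [Scheme.Hom.id_appTop]
    exact Iso.inv_hom_id_apply (Scheme.ΓSpecIso (CommRingCat.of k)) (g.ofConv a)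
  rw [HopfRep.IsDiagonalizable, eq_top_iff]
  rintro a -
  have ha : GMod80.fn ψ a ∈ Submodule.span k {c : Γ(T.left, ⊤) | Mu.IsCharFn c} := by rw [hspan]; trivial
  obtain ⟨m, r, c, hc⟩ := Submodule.mem_span_set'.1 ha
  have e : a = ∑ i, r i • (GMod80.fn ψ).symm (c i : Γ(T.left, ⊤)) := by
    refine sub_eq_zero.1 (Comod33.Conn.eq_zero_of_forall_point (k := k) fun g => ?_)
    rw [map_sub, map_sum, sub_eq_zero, ← hval, ← hc, map_sum]
    refine Finset.sum_congr rfl fun i _ => ?_
    rw [Algebra.smul_def, map_mul, Mu.algebraMap_eq_cst, Mu.gv_cst, map_smul, smul_eq_mul,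
      ← hval g ((GMod80.fn ψ).symm (c i)), RingEquiv.apply_symm_apply]
  rw [e]
  refine Submodule.sum_mem _ fun i _ => Submodule.smul_mem _ _ (Submodule.subset_span ?_)
  set b := (GMod80.fn ψ).symm (c i : Γ(T.left, ⊤)) with hb
  have hci : Mu.IsCharFn (GMod80.fn ψ b) := by
    rw [hb, RingEquiv.apply_symm_apply]; exact (c i).2
  have hmul : ∀ g h : WithConv (C →ₐ[k] k), (g * h).ofConv b = g.ofConv b * h.ofConv b := by
    intro g h
    rw [← hval, ← hval, ← hval, ← hci.2, map_mul, MonObj.comp_mul]
  have hone : CoalgebraStruct.counit (R := k) b = 1 := by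
    have h := hci.gv_one
    rw [show (1 : Mu.Pt k ⟶ T) = Tori96.spUnit.inv ≫ GMod80.e ψ k 1 by rw [map_one, MonObj.comp_one], hval] at h
    exact h
  refine ⟨hone, eq_of_lc fun φ => ?_⟩
  rw [lc_tmul]
  refine sub_eq_zero.1 (Comod33.Conn.eq_zero_of_forall_point (k := k) fun g => ?_)
  rw [map_sub, map_smul]
  show g.ofConv.toLinearMap (lc φ (CoalgebraStruct.comul (R := k) b)) - φ b • g.ofConv b = 0
  have hgb : rc g.ofConv.toLinearMap (CoalgebraStruct.comul (R := k) b) = g.ofConv b • b := by
    refine sub_eq_zero.1 (Comod33.Conn.eq_zero_of_forall_point (k := k) fun h => ?_)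
    rw [map_sub, map_smul, sub_eq_zero, smul_eq_mul, mul_comm, ← hmul, AlgHom.convMul_apply]
    generalize CoalgebraStruct.comul (R := k) b = t
    induction t with
    | zero => simp
    | add p q hp hq => simp only [map_add, hp, hq]
    | tmul p q => simp [mul_comm]
  rw [apply_lc, hgb, map_smul, smul_eq_mul, smul_eq_mul, mul_comm, sub_self]

/-- unipotent groups contain no torus -/
theorem hasNoSubtorus_of_unipotent [Algebra.FiniteType k Q] (hQ : HopfRep.IsUnipotent k Q)
    {U : Over (Spec (CommRingCat.of k))} [GrpObj U] (ψ : GMod80.sp k Q ≅ U) [IsMonHom ψ.hom] :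
    Red.HasNoSubtorus k U := by
  intro T _ j _ _ hT
  haveI : IsAffine T.left := Mu.isAffine_of_isTorus hT
  obtain ⟨C, _, _, ψT, _⟩ := GMod80.exists_coord T
  have hπ := bialgHom_eq_counit_of_unipotent hQ (GMod80.pullBialg ψ ψT j)
    (fun p hp => Diag.no_prim_of_isDiagonalizable (isDiagonalizable_coord hT ψT) hp)
  have h1 : ψT.hom ≫ j = 1 := by
    have h := GMod80.e_comp ψ ψT j (toConv (AlgHom.id k C))
    rw [GMod80.e_id, ofConv_toConv, AlgHom.id_comp] at h
    refine h.trans ?_
    rw [show toConv (GMod80.pull ψ ψT j) = (1 : WithConv (Q →ₐ[k] C)) from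
      WithConv.ofConv_injective (AlgHom.ext fun a => hπ a)]
    exact map_one _
  have hid : 𝟙 T = 1 := by
    rw [← cancel_mono j, MonObj.one_comp j, Category.id_comp, ← cancel_epi ψT.hom, h1, MonObj.comp_one]
  refine ⟨η[T].left, ?_, Over.w η[T]⟩
  have := congrArg CommaMorphism.left hid
  rw [Hom.one_def] at this
  exact this.symm

end Groth.Agent.GIT36.LinRedChar0
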