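import Groth.Agent.GIT36.LinRedChar0.Alg
import Groth.Agent.GIT36.LinRedChar0.UnipSub
import Groth.Agent.Unip38.UnitsConst
import Groth.Agent.CAlg6.GeomTensor
import Groth.Agent.Comod33.IdentityComp
import Groth.Agent.Comod33.Units
import Groth.Agent.Comod33.UnipotentBC
import Groth.Agent.GMod80.NoTorus
import Groth.Agent.S7968
import Groth.Agent.S18813
import Groth.Prelude.Def_ComodSub

/-!
Reductive groups in characteristic zero and linear reductivity.
-/

set_option autoImplicit false
set_option linter.unusedSectionVars false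
set_option linter.style.haveILetI false

universe u

open CategoryTheory CategoryTheory.Limits MonoidalCategory CartesianMonoidalCategory MonObj GrpObj AlgebraicGeometry
open scoped TensorProduct
open WithConv TensorProduct

noncomputable section

namespace Groth.Agent.GIT36.LinRedChar0

open Groth.Agent.Comod33

variable {k : Type u} [Field k] {B : Type u} [CommRing B] [HopfAlgebra k B]
  {G : Over (Spec (CommRingCat.of k))} [GrpObj G] (ψ : GMod80.sp k B ≅ G) [IsMonHom ψ.hom]

include ψ in
theorem isAffine_left : IsAffine G.left := IsAffine.of_isIso (GMod80.sch ψ).inv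

include ψ in
theorem locallyOfFiniteType_hom [Algebra.FiniteType k B] : LocallyOfFiniteType G.hom := by
  have h : LocallyOfFiniteType (Spec.map (CommRingCat.ofHom (algebraMap k B))) := by
    rw [HasRingHomProperty.Spec_iff (P := @LocallyOfFiniteType)]
    exact RingHom.finiteType_algebraMap.2 inferInstance
  have e : G.hom = (GMod80.sch ψ).inv ≫ Spec.map (CommRingCat.ofHom (algebraMap k B)) :=
    (Over.w ψ.inv).symm
  rw [e]
  infer_instance

include ψ in
theorem connectedSpace_left (hconn : ∀ e : B, IsIdempotentElem e → e = 0 ∨ e = 1) : ConnectedSpace G.left := by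
  haveI : Nontrivial B := Bialgebra.nontrivial (R := k) (A := B)
  haveI : ConnectedSpace (Spec (CommRingCat.of B) :) :=
    (CAlg6.connectedSpace_iff_idempotent B).2 ⟨inferInstance, hconn⟩
  exact (GMod80.sch ψ).hom.homeomorph.surjective.connectedSpace (GMod80.sch ψ).hom.homeomorph.continuous

theorem isIso_pairIso (C : Type u) [CommRing C] [Algebra k C] : IsIso (GMod80.pairIso ψ C) := by
  suffices IsIso ((Over.forget _).map (GMod80.pairIso ψ C)) from
    isIso_of_reflects_iso (GMod80.pairIso ψ C) (Over.forget _)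
  let w : G ⊗ VecGrp.pt k C ≅ GMod80.sp k B ⊗ VecGrp.pt k C := whiskerRightIso ψ.symm (VecGrp.pt k C)
  have hw : IsIso w.hom.left := ((Over.forget _).mapIso w).isIso_hom
  have hpw : (GMod80.pairIso ψ C).left ≫ w.hom.left = (pullbackSpecIso k B C).inv := by
    apply pullback.hom_ext
    · refine Eq.trans ?_ (pullbackSpecIso_inv_fst k B C).symm
      change ((GMod80.pairIso ψ C).left ≫ w.hom.left) ≫ (fst (GMod80.sp k B) (VecGrp.pt k C)).left = _
      have : GMod80.pairIso ψ C ≫ w.hom ≫ fst (GMod80.sp k B) (VecGrp.pt k C) =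
          GMod80.e ψ _ (toConv Algebra.TensorProduct.includeLeft) ≫ ψ.inv := by
        simp [w, GMod80.pairIso]
      rw [Category.assoc, ← Over.comp_left, ← Over.comp_left, this, Over.comp_left, GMod80.e_left,
        Category.assoc]
      change _ ≫ (GMod80.sch ψ).hom ≫ (GMod80.sch ψ).inv = _
      rw [Iso.hom_inv_id]
      exact Category.comp_id _
    · refine Eq.trans ?_ (pullbackSpecIso_inv_snd k B C).symm
      change ((GMod80.pairIso ψ C).left ≫ w.hom.left) ≫ (snd (GMod80.sp k B) (VecGrp.pt k C)).left = _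
      have : GMod80.pairIso ψ C ≫ w.hom ≫ snd (GMod80.sp k B) (VecGrp.pt k C) =
          VecGrp.ptMap Algebra.TensorProduct.includeRight := by
        simp [w, GMod80.pairIso]
      rw [Category.assoc, ← Over.comp_left, ← Over.comp_left, this]
      rfl
  have hc : IsIso ((GMod80.pairIso ψ C).left ≫ w.hom.left) := by rw [hpw]; exact Iso.isIso_inv _
  exact @IsIso.of_isIso_comp_right _ _ _ _ _ (GMod80.pairIso ψ C).left w.hom.left hw hc

/-- the closed subgroup of a normal Hopf ideal is normal -/
theorem isNormalHom_of_isNormalHopfIdeal (I : Ideal B) [I.IsHopfIdeal k] (hI : SGA3.IsNormalHopfIdeal k B I) :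
    AlgGrp.IsNormalHom (GMod80.spHom (Bialgebra.Quotient.mkBialgHom (R := k) I) ≫ ψ.hom) := by
  set C := B ⧸ I
  set i := GMod80.spHom (Bialgebra.Quotient.mkBialgHom (R := k) I) ≫ ψ.hom with hi
  have hie : i = GMod80.e ψ C (toConv (Ideal.Quotient.mkₐ k I)) := rfl
  obtain ⟨pinv, -, hpinv⟩ := (isIso_pairIso ψ C).out
  let R := B ⊗[k] C
  let f : B →ₐ[k] R := Algebra.TensorProduct.includeLeft
  let h : B →ₐ[k] R := (Algebra.TensorProduct.includeRight).comp (Ideal.Quotient.mkₐ k I)
  have hh : ∀ a ∈ I, h a = 0 := fun a ha => by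
    show Algebra.TensorProduct.includeRight (Ideal.Quotient.mk I a) = (0 : R)
    rw [Ideal.Quotient.eq_zero_iff_mem.2 ha, map_zero]
  let q : C →ₐ[k] R := Ideal.Quotient.liftₐ I
    (Dyn.conv3 k B f h (f.comp (HopfAlgebra.antipodeAlgHom k B))) (hI R f h hh)
  have hq : toConv (q.comp (Ideal.Quotient.mkₐ k I)) = toConv f * toConv h * (toConv f)⁻¹ := by
    rw [show q.comp (Ideal.Quotient.mkₐ k I) = Dyn.conv3 k B f h (f.comp (HopfAlgebra.antipodeAlgHom k B)) from
      Ideal.Quotient.liftₐ_comp I _ _, SGA3a.NormalHopf.toConv_conv3, ← SGA3a.NormalHopf.inv_ofConv]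
  have key : GMod80.e ψ R (toConv f) * (VecGrp.ptMap Algebra.TensorProduct.includeRight ≫ i) *
      (GMod80.e ψ R (toConv f))⁻¹ = VecGrp.ptMap q ≫ i := by
    rw [hie, GMod80.e_natural, GMod80.e_natural, ofConv_toConv, hq, map_mul, map_mul]
    congr 1
    exact (map_inv (GMod80.e ψ R) (toConv f)).symm
  intro T g n
  let n₀ : T ⟶ VecGrp.pt k C := n
  let p : T ⟶ VecGrp.pt k R := lift g n₀ ≫ pinv
  have hp : p ≫ GMod80.pairIso ψ C = lift g n₀ := by
    rw [Category.assoc, hpinv, Category.comp_id]
  have hg : p ≫ GMod80.e ψ R (toConv f) = g := by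
    have := congrArg (· ≫ fst G (VecGrp.pt k C)) hp
    simp only [Category.assoc, GMod80.pairIso, lift_fst] at this
    exact this
  have hn : p ≫ VecGrp.ptMap Algebra.TensorProduct.includeRight = n₀ := by
    have := congrArg (· ≫ snd G (VecGrp.pt k C)) hp
    simp only [Category.assoc, GMod80.pairIso, lift_snd] at this
    exact this
  refine ⟨p ≫ VecGrp.ptMap q, ?_⟩
  have h' := congrArg (p ≫ ·) key
  simp only [MonObj.comp_mul, GrpObj.comp_inv, hg] at h'
  have h2 : p ≫ VecGrp.ptMap Algebra.TensorProduct.includeRight ≫ i = n ≫ i :=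
    (Category.assoc _ _ _).symm.trans (congrArg (· ≫ i) hn)
  rw [h2] at h'
  exact h'.trans (Category.assoc _ _ _).symm

include ψ in
/-- a reductive group in characteristic zero is linearly reductive -/
theorem isLinearlyReductive_of_isReductiveOver [CharZero k] [IsAlgClosed k] [Algebra.FiniteType k B]
    (hred : Red.IsReductiveOver k G) : HopfRep.IsLinearlyReductive k B := by
  obtain ⟨-, -, hc, hU⟩ := hred
  haveI := hc
  haveI : _root_.IsReduced B := Comod33.Aug.isReduced_of_charZero (k := k)
  haveI : IsDomain B := Comod33.Units.isDomain k (GMod80.connected ψ)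
  refine isLinearlyReductive_of_hrad fun I hI hIn hunip => ?_
  haveI := hI
  have hunip' : HopfRep.IsUnipotent k (B ⧸ I) := hunip
  haveI : Algebra.FiniteType k (B ⧸ I) :=
    Algebra.FiniteType.of_surjective (Ideal.Quotient.mkₐ k I) (Ideal.Quotient.mkₐ_surjective k I)
  let U := GMod80.sp k (B ⧸ I)
  let π := Bialgebra.Quotient.mkBialgHom (R := k) I
  let i : U ⟶ G := GMod80.spHom π ≫ ψ.hom
  have hcl : IsClosedImmersion i.left := by
    haveI : IsClosedImmersion (GMod80.spHom π).left :=
      IsClosedImmersion.spec_of_surjective _ (Ideal.Quotient.mkₐ_surjective k I)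
    haveI : IsIso ψ.hom.left := ((Over.forget _).mapIso ψ).isIso_hom
    rw [Over.comp_left]
    infer_instance
  haveI : IsMonHom (Iso.refl U).hom := inferInstanceAs (IsMonHom (𝟙 U))
  haveI : LocallyOfFiniteType U.hom := locallyOfFiniteType_hom (Iso.refl U)
  have htriv : Red.IsTrivialGrp U := hU U i hcl (Cartier57.smooth U)
    (connectedSpace_left (Iso.refl U) (idem_of_unipotent hunip'))
    (isNormalHom_of_isNormalHopfIdeal ψ I hIn) (hasNoSubtorus_of_unipotent hunip' (Iso.refl U))
  have hiso : IsIso (Spec.map (CommRingCat.ofHom (algebraMap k (B ⧸ I)))) := htriv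
  have hsurj := ((isIso_SpecMap_iff).1 hiso).2
  have hle : I ≤ RingHom.ker (Bialgebra.counitAlgHom k B) :=
    fun a ha => Submodule.IsCoideal.counit_eq_zero (I := I.restrictScalars k) (x := a) ha
  refine le_antisymm hle fun a ha => ?_
  obtain ⟨c, hc'⟩ := hsurj (Ideal.Quotient.mk I a)
  have h1 : a - algebraMap k B c ∈ I := Ideal.Quotient.eq.1 hc'.symm
  have h2 := hle h1
  rw [RingHom.mem_ker, map_sub, AlgHom.commutes, RingHom.mem_ker.1 ha, zero_sub, neg_eq_zero] at h2
  rw [show c = 0 from h2, map_zero, sub_zero] at h1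
  exact h1

/-- coordinates of a unipotent normal subgroup act trivially on the regular comodule -/
theorem lTensor_comul_of_isUnipotent [Algebra.FiniteType k B] (hLR : HopfRep.IsLinearlyReductive k B)
    {C : Type u} [CommRing C] [HopfAlgebra k C] (π : B →ₐc[k] C) (hπ : Function.Surjective π)
    [(RingHom.ker (π : B →ₐ[k] C)).IsHopfIdeal k]
    (hI : SGA3.IsNormalHopfIdeal k B (RingHom.ker (π : B →ₐ[k] C))) (hC : HopfRep.IsUnipotent k C) (b : B) :
    LinearMap.lTensor B (π : B →ₐ[k] C).toLinearMap (CoalgebraStruct.comul (R := k) b) = b ⊗ₜ[k] (1 : C) := by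
  let p := (π : B →ₐ[k] C).toLinearMap
  let W : Submodule k B :=
    LinearMap.ker (p.lTensor B ∘ₗ CoalgebraStruct.comul (R := k) (A := B) - (TensorProduct.mk k B C).flip 1)
  have hmemW : ∀ v : B, v ∈ W ↔ p.lTensor B (CoalgebraStruct.comul (R := k) v) = v ⊗ₜ[k] (1 : C) := fun v => by
    simp only [W, LinearMap.mem_ker, LinearMap.sub_apply, sub_eq_zero]
    rfl
  let eC := Ideal.quotientKerAlgEquivOfSurjective (f := (π : B →ₐ[k] C)) hπ
  have hmk : eC.toLinearMap ∘ₗ (Ideal.Quotient.mkₐ k (RingHom.ker (π : B →ₐ[k] C))).toLinearMap = p :=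
    LinearMap.ext fun x => rfl
  have hinj : Function.Injective (eC.toLinearMap.lTensor B) :=
    Module.Flat.lTensor_preserves_injective_linearMap _ eC.injective
  have hWsub : HopfRep.IsSubcomod (k := k) (A := B) W :=
    S7968.result k B _ hI B W fun v => by
      rw [hmemW, ← hmk, LinearMap.lTensor_comp, LinearMap.comp_apply]
      constructor
      · intro h
        apply hinj
        refine h.trans ?_
        rw [LinearMap.lTensor_tmul]
        exact congrArg (v ⊗ₜ[k] ·) (map_one eC).symm
      · intro h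
        refine (congrArg (eC.toLinearMap.lTensor B) h).trans ?_
        rw [LinearMap.lTensor_tmul]
        exact congrArg (v ⊗ₜ[k] ·) (map_one eC)
  obtain ⟨U, hUf, hbU, hU⟩ := exists_finite_subcomod_mem (k := k) (A := B) b
  let cU := ComodSub.Comod.restr (HopfRep.Comod.regular k B) U hU
  have hιU : Hoch.IsComodHom B U.subtype := ComodSub.isComodHom_subtype (HopfRep.Comod.regular k B) U hU
  obtain ⟨W', hW's, hcompl⟩ := @hLR U _ _ cU hUf (W.comap U.subtype) (isSubcomod_comap hWsub hιU)
  suffices hbot : W' = ⊥ by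
    rw [hbot] at hcompl
    have htop : W.comap U.subtype = ⊤ := by simpa using hcompl.sup_eq_top
    exact (hmemW b).1 (show (⟨b, hbU⟩ : U) ∈ W.comap U.subtype by rw [htop]; trivial)
  by_contra hne
  let V := W'.map U.subtype
  have hV : HopfRep.IsSubcomod (k := k) (A := B) V := isSubcomod_map hW's hιU
  haveI : Nontrivial V :=
    Submodule.nontrivial_iff_ne_bot.2 fun h => hne (Submodule.map_injective_of_injective U.subtype_injective
      (h.trans (Submodule.map_bot _).symm))
  let cV := ComodSub.Comod.restr (HopfRep.Comod.regular k B) V hV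
  have hιV : Hoch.IsComodHom B V.subtype := ComodSub.isComodHom_subtype (HopfRep.Comod.regular k B) V hV
  have hιV' := isComodHom_push (π : B →ₗc[k] C) cV (HopfRep.Comod.regular k B) hιV
  obtain ⟨x, hx, hx0⟩ := @exists_fixed_of_isUnipotent k _ C _ _ hC V _ _ (push (π : B →ₗc[k] C) cV) _ _
  have hxW : (x : B) ∈ W := by
    refine (hmemW _).2 ((LinearMap.congr_fun hιV' x).trans ?_)
    show V.subtype.rTensor C ((push (π : B →ₗc[k] C) cV).coact x) = _
    rw [show (push (π : B →ₗc[k] C) cV).coact x = x ⊗ₜ[k] (1 : C) from hx]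
    rfl
  obtain ⟨y, hy, hyx⟩ := x.2
  have hy0 : y = 0 := by
    have : y ∈ W.comap U.subtype ⊓ W' := ⟨by
      show U.subtype y ∈ W
      rw [hyx]; exact hxW, hy⟩
    rwa [hcompl.inf_eq_bot, Submodule.mem_bot] at this
  exact hx0 (Subtype.ext (by rw [← hyx, hy0, map_zero]; rfl))

include ψ in
/-- a linearly reductive connected group in characteristic zero is reductive -/
theorem isReductiveOver_of_isLinearlyReductive [CharZero k] [IsAlgClosed k] [Algebra.FiniteType k B]
    (hconn : ∀ e : B, IsIdempotentElem e → e = 0 ∨ e = 1)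
    (hLR : HopfRep.IsLinearlyReductive k B) : Red.IsReductiveOver k G := by
  haveI := isAffine_left ψ
  haveI := locallyOfFiniteType_hom ψ
  haveI := connectedSpace_left ψ hconn
  refine ⟨inferInstance, Cartier57.smooth G, inferInstance, fun U _ i _ hi hsm hc hN hns => ?_⟩
  haveI := hi; haveI := hsm; haveI := hc
  haveI : IsAffine U.left := isAffine_of_isAffineHom i.left
  obtain ⟨C, _, _, ψ', hψ'⟩ := GMod80.exists_coord U
  have hC := GMod80.isUnipotent_of_hasNoSubtorus ψ' hns
  let π := GMod80.pullBialg ψ ψ' i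
  have hπ : Function.Surjective π := GMod80.pull_surjective ψ ψ' i
  haveI : (RingHom.ker (π : B →ₐ[k] C)).IsHopfIdeal k := IdComp.isHopfIdeal_ker π hπ
  have hI : SGA3.IsNormalHopfIdeal k B (RingHom.ker (π : B →ₐ[k] C)) := by
    intro R _ _ g h hh a ha
    have hker : RingHom.ker (π : B →ₐ[k] C).toRingHom ≤ RingHom.ker h.toRingHom := fun x hx => hh x hx
    let h' := AlgHom.liftOfSurjective (π : B →ₐ[k] C) hπ h hker
    have hh' : h'.comp (π : B →ₐ[k] C) = h :=
      AlgHom.ext fun x => AlgHom.liftOfSurjective_apply (π : B →ₐ[k] C) hπ h hker x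
    obtain ⟨n', hn'⟩ := hN (VecGrp.pt k R) (GMod80.e ψ R (toConv g)) (GMod80.e ψ' R (toConv h'))
    obtain ⟨f', rfl⟩ := (GMod80.e ψ' R).surjective n'
    rw [GMod80.e_comp ψ, GMod80.e_comp ψ, ← map_inv (GMod80.e ψ R), ← map_mul, ← map_mul, ofConv_toConv] at hn'
    have h2 : toConv g * toConv h * (toConv g)⁻¹ = toConv (f'.ofConv.comp (π : B →ₐ[k] C)) := by
      rw [← hh']
      exact (GMod80.e ψ R).injective hn'
    have h3 : Dyn.conv3 k B g h (g.comp (HopfAlgebra.antipodeAlgHom k B)) = f'.ofConv.comp (π : B →ₐ[k] C) := by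
      have h4 := congrArg WithConv.ofConv h2
      rw [← WithConv.ofConv_toConv (Dyn.conv3 k B _ _ _), SGA3a.NormalHopf.toConv_conv3,
        ← SGA3a.NormalHopf.inv_ofConv]
      exact h4
    rw [h3, AlgHom.comp_apply, RingHom.mem_ker.1 ha, map_zero]
  have hpi : ∀ b, π b = algebraMap k C (Bialgebra.counitAlgHom k B b) := by
    intro b
    have h := congrArg (fun z => TensorProduct.lid k C ((CoalgebraStruct.counit (R := k) (A := B)).rTensor C z))
      (lTensor_comul_of_isUnipotent hLR π hπ hI hC b)
    simp only [LinearMap.rTensor_tmul, TensorProduct.lid_tmul] at h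
    rw [← LinearMap.comp_apply (LinearMap.rTensor C _), LinearMap.rTensor_comp_lTensor,
      ← LinearMap.lTensor_comp_rTensor, LinearMap.comp_apply, Coalgebra.rTensor_counit_comul,
      LinearMap.lTensor_tmul, TensorProduct.lid_tmul, one_smul] at h
    rw [Algebra.algebraMap_eq_smul_one, Bialgebra.counitAlgHom_apply]
    exact h
  haveI : Nontrivial C := Bialgebra.nontrivial (R := k) (A := C)
  haveI : IsIso (Spec.map (CommRingCat.ofHom (algebraMap k C))) := isIso_SpecMap_iff.2
    ⟨(algebraMap k C).injective, fun c => by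
      obtain ⟨b, rfl⟩ := hπ c
      exact ⟨_, (hpi b).symm⟩⟩
  have hU : U.hom = (GMod80.sch ψ').inv ≫ Spec.map (CommRingCat.ofHom (algebraMap k C)) :=
    (Over.w ψ'.inv).symm
  show IsIso U.hom
  rw [hU]
  infer_instance

section BaseChange

variable (k) (L : Type u) [Field L] [Algebra k L] (A : Type u) [CommRing A] [HopfAlgebra k A]

/-- the morphism of a field extension -/
abbrev bm : Spec (CommRingCat.of L) ⟶ Spec (CommRingCat.of k) :=
  Spec.map (CommRingCat.ofHom (algebraMap k L))

/-- coordinates of the base change -/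
def bcIso : GMod80.sp L (L ⊗[k] A) ≅ Red.bc (bm k L) (GMod80.sp k A) := by
  refine (Over.isoMk (pullbackSymmetry _ _ ≪≫ pullbackSpecIso' k L A) ?_).symm
  exact (inferInstance : (pullbackSymmetry .. ≪≫ pullbackSpecIso' k L A).hom.IsOver (Spec (.of L))).comp_over

instance isMonHom_bcIso : IsMonHom (bcIso k L A).hom := by
  haveI : IsMonHom ((bcIso k L A).symm).hom :=
    (inferInstance : IsMonHom <| (pullbackSymmetry .. ≪≫ pullbackSpecIso' k L A).hom.asOver (Spec (.of L)))
  exact (inferInstance : IsMonHom ((bcIso k L A).symm).inv)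

variable [CharZero k] [Algebra.FiniteType k A] [IsAlgClosed L]

theorem isReductiveOver_bc_iff (hA : ConnectedSpace (Spec (CommRingCat.of A) :)) :
    Red.IsReductiveOver L (Red.bc (bm k L) (GMod80.sp k A)) ↔ HopfRep.IsLinearlyReductive k A := by
  haveI : CharZero L := charZero_of_injective_algebraMap (algebraMap k L).injective
  rw [S18813.result k L A]
  refine ⟨fun h => isLinearlyReductive_of_isReductiveOver (bcIso k L A) h, fun h => ?_⟩
  exact isReductiveOver_of_isLinearlyReductive (bcIso k L A)
    (Unip38.idem_baseChange_trivial (Bialgebra.counitAlgHom k A)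
      ((CAlg6.connectedSpace_iff_idempotent A).1 hA).2 L) h

end BaseChange

/-- reductive iff linearly reductive, in characteristic zero -/
theorem isReductive_iff [CharZero k] (A : Type u) [CommRing A] [HopfAlgebra k A] [Algebra.FiniteType k A]
    (hA : ConnectedSpace (Spec (CommRingCat.of A) :)) :
    Red.IsReductive (GMod80.sp k A) ↔ HopfRep.IsLinearlyReductive k A := by
  let S := Spec (CommRingCat.of k)
  have key : ∀ s : S, Red.IsReductiveOver (AlgebraicClosure (S.residueField s))
      (Red.geomFibre s (GMod80.sp k A)) ↔ HopfRep.IsLinearlyReductive k A := by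
    intro s
    obtain ⟨φ, hφ⟩ : ∃ φ, Spec.map φ = Red.geomPt s := ⟨Spec.preimage _, Spec.map_preimage _⟩
    letI : Algebra k (AlgebraicClosure (S.residueField s)) := φ.hom.toAlgebra
    show Red.IsReductiveOver _ (Red.bc (Red.geomPt s) (GMod80.sp k A)) ↔ _
    rw [← hφ]
    exact isReductiveOver_bc_iff k (AlgebraicClosure (S.residueField s)) A hA
  refine ⟨fun h => ?_, fun h => ⟨?_, ?_, fun s => (key s).2 h⟩⟩
  · obtain ⟨p⟩ : Nonempty (PrimeSpectrum k) := inferInstance
    exact (key p).1 (h.2.2 p)
  · exact (inferInstance : IsAffineHom (Spec.map (CommRingCat.ofHom (algebraMap k A))))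
  · haveI : IsMonHom (Iso.refl (GMod80.sp k A)).hom := inferInstanceAs (IsMonHom (𝟙 _))
    haveI := locallyOfFiniteType_hom (Iso.refl (GMod80.sp k A))
    exact Cartier57.smooth _

end Groth.Agent.GIT36.LinRedChar0
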