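import Mathlib.Algebra.Lie.CartanCriterion
import Mathlib.Algebra.Lie.LieTheorem
import Mathlib.Algebra.Lie.Semisimple.Basic
import Mathlib.Algebra.Lie.Derivation.Killing
import Mathlib.LinearAlgebra.BilinearForm.Properties
import Mathlib.FieldTheory.IsAlgClosed.Basic

/-!
Casimir element argument: a Lie algebra with a separating family of irreducible representations
has no non-split extension of the trivial module by a non-trivial irreducible module.
-/

set_option autoImplicit false
set_option linter.unusedSectionVars false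
set_option linter.style.haveILetI false

universe u v w

open LinearMap (trace)
open LieModule LieAlgebra Module

noncomputable section

namespace Groth.Agent.GIT36.LinRedChar0

attribute [local instance 100] LieRing.ofAssociativeRing

variable {k : Type u} [Field k] [CharZero k] [IsAlgClosed k]
variable {L : Type v} [LieRing L] [LieAlgebra k L] [Module.Finite k L]

/-- The solvable radical acts by scalars on an irreducible representation. -/
theorem radical_smul {M : Type w} [AddCommGroup M] [Module k M] [LieRingModule L M]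
    [LieModule k L M] [Module.Finite k M] [LieModule.IsIrreducible k L M] {x : L}
    (hx : x ∈ radical k L) : ∃ c : k, ∀ m : M, ⁅x, m⁆ = c • m := by
  have : Nontrivial M := nontrivial_of_isIrreducible k L M
  obtain ⟨χ, hχ⟩ : ∃ χ : Module.Dual k (radical k L), Nontrivial (weightSpace M χ) :=
    exists_nontrivial_weightSpace_of_isSolvable k (radical k L) M
  let N : LieSubmodule k L M := weightSpaceOfIsLieTower k M χ
  haveI : Nontrivial N := hχ
  have hN : N = ⊤ := N.eq_top_of_isIrreducible k L M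
  refine ⟨χ ⟨x, hx⟩, fun m => ?_⟩
  have hm : m ∈ N := hN ▸ LieSubmodule.mem_top m
  have hm' : ∀ y : radical k L, ⁅y, m⁆ = χ y • m := by
    simpa [N, weightSpaceOfIsLieTower, mem_weightSpace] using hm
  exact hm' ⟨x, hx⟩

section Family

variable {ι : Type*} (W : ι → Type w) [∀ i, AddCommGroup (W i)] [∀ i, Module k (W i)]
  [∀ i, LieRingModule L (W i)] [∀ i, LieModule k L (W i)] [∀ i, Module.Finite k (W i)]
  [∀ i, LieModule.IsIrreducible k L (W i)]
  (hW : ∀ x : L, (∀ i (m : W i), ⁅x, m⁆ = 0) → x = 0)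

/-- the derived algebra -/
abbrev der (k : Type u) [Field k] (L : Type v) [LieRing L] [LieAlgebra k L] : LieIdeal k L :=
  derivedSeries k L 1

omit [CharZero k] [IsAlgClosed k] [Module.Finite k L] in
theorem der_eq : der k L = ⁅(⊤ : LieIdeal k L), (⊤ : LieIdeal k L)⁆ := rfl

omit [CharZero k] [IsAlgClosed k] [Module.Finite k L] in
theorem lie_mem_der (x y : L) : ⁅x, y⁆ ∈ der k L :=
  LieSubmodule.lie_mem_lie (LieSubmodule.mem_top x) (LieSubmodule.mem_top y)

omit [CharZero k] [IsAlgClosed k] [Module.Finite k L] in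
theorem trace_toEnd_der {M : Type w} [AddCommGroup M] [Module k M] [LieRingModule L M]
    [LieModule k L M] {x : L} (hx : x ∈ der k L) : trace k M (toEnd k L M x) = 0 := by
  rw [der_eq, ← LieSubmodule.mem_toSubmodule, LieSubmodule.lieIdeal_oper_eq_linear_span'] at hx
  induction hx using Submodule.span_induction with
  | zero => simp
  | add a b _ _ ha hb => simp [ha, hb]
  | smul c a _ ha => simp [ha]
  | mem a ha => obtain ⟨p, -, q, -, rfl⟩ := ha; simp

include hW

theorem radical_le_center : radical k L ≤ center k L := by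
  intro x hx
  refine (mem_maxTrivSubmodule k L L x).2 fun y => hW _ fun i m => ?_
  obtain ⟨c, hc⟩ := radical_smul (M := W i) hx
  rw [lie_lie, hc, hc, lie_smul, sub_self]

theorem center_inf_der : center k L ⊓ der k L = ⊥ := by
  rw [LieSubmodule.eq_bot_iff]
  rintro x ⟨hz, hd⟩
  refine hW x fun i m => ?_
  obtain ⟨c, hc⟩ := radical_smul (M := W i) (center_le_radical k L hz)
  have e : toEnd k L (W i) x = c • LinearMap.id := LinearMap.ext fun v => hc v
  have h0 := trace_toEnd_der (k := k) (M := W i) hd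
  rw [e, map_smul, LinearMap.trace_id, smul_eq_mul] at h0
  have : Nontrivial (W i) := nontrivial_of_isIrreducible k L (W i)
  rcases mul_eq_zero.1 h0 with h | h
  · rw [hc, h, zero_smul]
  · exact absurd (Nat.cast_eq_zero.1 h) Module.finrank_pos.ne'

theorem center_sup_der (x : L) : ∃ z ∈ center k L, ∃ a ∈ der k L, x = z + a := by
  let B := killingForm k L
  have horth : B.orthogonal (der k L).toSubmodule ≤ (center k L).toSubmodule := by
    intro x hx
    refine (mem_maxTrivSubmodule k L L x).2 fun y => ?_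
    have h1 : ⁅x, y⁆ ∈ LieIdeal.killingCompl k L ⊤ := by
      refine (LieIdeal.mem_killingCompl k L _).2 fun b _ => ?_
      rw [LieModule.traceForm_comm, LieModule.traceForm_apply_lie_apply, LieModule.traceForm_comm]
      exact hx _ (lie_mem_der _ _)
    have hR : radical k L ≤ center k L := radical_le_center W hW
    have h2 : ⁅x, y⁆ ∈ center k L ⊓ der k L :=
      ⟨hR (killingCompl_top_le_radical k L h1), lie_mem_der _ _⟩
    rw [center_inf_der W hW, LieSubmodule.mem_bot] at h2
    rw [← lie_skew, h2, neg_zero]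
  have hinf : (center k L).toSubmodule ⊓ (der k L).toSubmodule = ⊥ := by
    rw [← LieSubmodule.inf_toSubmodule, center_inf_der W hW, LieSubmodule.bot_toSubmodule]
  have hdim := LinearMap.BilinForm.finrank_add_finrank_orthogonal' (B := B) (der k L).toSubmodule
  have h3 := Submodule.finrank_mono horth
  have h4 := Submodule.finrank_sup_add_finrank_inf_eq (center k L).toSubmodule (der k L).toSubmodule
  rw [hinf, finrank_bot, add_zero] at h4
  have htop : (center k L).toSubmodule ⊔ (der k L).toSubmodule = ⊤ := by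
    refine Submodule.eq_top_of_finrank_eq (le_antisymm (Submodule.finrank_le _) ?_)
    omega
  obtain ⟨z, hz, a, ha, e⟩ := Submodule.mem_sup.1 (htop ▸ Submodule.mem_top (x := x))
  exact ⟨z, hz, a, ha, e.symm⟩

/-- an ideal of the derived algebra is an ideal of the whole algebra -/
theorem lie_mem_of_ideal_der (I : LieIdeal k (der k L)) (y : L) {a : der k L} (ha : a ∈ I) :
    ∃ b ∈ I, (b : L) = ⁅y, (a : L)⁆ := by
  obtain ⟨z, hz, c, hc, rfl⟩ := center_sup_der (k := k) W hW y
  refine ⟨⁅(⟨c, hc⟩ : der k L), a⁆, lie_mem_right k (der k L) I _ _ ha, ?_⟩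
  have h0 : ⁅z, (a : L)⁆ = 0 := by
    rw [← lie_skew, (mem_maxTrivSubmodule k L L z).1 hz (a : L), neg_zero]
  rw [add_lie, h0, zero_add]
  rfl

/-- an ideal of the derived algebra, seen in the whole algebra -/
def liftIdeal (I : LieIdeal k (der k L)) : LieIdeal k L :=
  { I.toSubmodule.map (der k L).toSubmodule.subtype with
    lie_mem := fun {y x} hx => by
      obtain ⟨a, ha, rfl⟩ := hx
      obtain ⟨b, hb, e⟩ := lie_mem_of_ideal_der W hW I y ha
      exact ⟨b, hb, e⟩ }

theorem hasTrivialRadical_der : HasTrivialRadical k (der k L) := by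
  refine hasTrivialRadical_of_no_solvable_ideals fun I hI => ?_
  rw [LieSubmodule.eq_bot_iff]
  intro x hx
  let J := liftIdeal W hW I
  have hJ : IsSolvable J := by
    let f : I →ₗ⁅k⁆ J :=
      { toFun := fun a => ⟨((a : der k L) : L), a.1, a.2, rfl⟩
        map_add' := fun _ _ => rfl
        map_smul' := fun _ _ => rfl
        map_lie' := rfl }
    have hf : Function.Surjective f := by
      rintro ⟨y, a, ha, rfl⟩
      exact ⟨⟨a, ha⟩, rfl⟩
    exact hf.lieAlgebra_isSolvable
  have h1 : (x : L) ∈ radical k L :=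
    (LieIdeal.solvable_iff_le_radical k L J).1 hJ ⟨x, hx, rfl⟩
  have h2 : (x : L) ∈ center k L ⊓ der k L := ⟨radical_le_center W hW h1, x.2⟩
  rw [center_inf_der W hW, LieSubmodule.mem_bot] at h2
  exact Subtype.ext h2

end Family

/-- a faithful representation with zero trace form has solvable Lie algebra -/
theorem isSolvable_of_traceForm_eq_zero {K : Type v} [LieRing K] [LieAlgebra k K] [Module.Finite k K]
    {M : Type w} [AddCommGroup M] [Module k M] [LieRingModule K M] [LieModule k K M]
    [Module.Finite k M] (hf : ∀ x : K, (∀ m : M, ⁅x, m⁆ = 0) → x = 0)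
    (h : traceForm k K M = 0) : IsSolvable K := by
  have hn := LieModule.isNilpotent_derivedSeries_of_traceForm_eq_zero h
  rw [LieModule.isNilpotent_iff_forall' (R := k)] at hn
  let D := derivedSeries k K 1
  have hD : LieRing.IsNilpotent D := by
    rw [LieAlgebra.isNilpotent_iff_forall (R := k)]
    intro x
    let φ : D →ₗ[k] Module.End k M := (toEnd k D M).toLinearMap
    obtain ⟨n, hn'⟩ := LieAlgebra.ad_nilpotent_of_nilpotent (R := k) (hn x)
    refine ⟨n, LinearMap.ext fun y => ?_⟩
    have key : ∀ m : ℕ, ∀ y, φ ((ad k D x ^ m) y) = (ad k (Module.End k M) (toEnd k D M x) ^ m) (φ y) := by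
      intro m
      induction m with
      | zero => intro y; rfl
      | succ m ih =>
        intro y
        rw [pow_succ, pow_succ, Module.End.mul_apply, Module.End.mul_apply, ih]
        congr 1
        exact (toEnd k D M).map_lie x y
    have h0 := key n y
    rw [hn', LinearMap.zero_apply] at h0
    exact Subtype.ext (hf _ fun m => LinearMap.congr_fun h0 m)
  haveI : IsSolvable D := inferInstance
  obtain ⟨m, hm⟩ := IsSolvable.solvable k D
  rw [LieIdeal.derivedSeries_eq_bot_iff] at hm
  refine IsSolvable.mk (R := k) (k := m + 1) ?_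
  rw [derivedSeries_def, derivedSeriesOfIdeal_add]
  exact hm



section Casimir

/-- In a semisimple Lie algebra a nontrivial representation has a nonzero ideal on which its trace
form is nondegenerate. -/
theorem exists_nondegenerate_ideal {S : Type v} [LieRing S] [LieAlgebra k S] [Module.Finite k S]
    [HasTrivialRadical k S] {M : Type w} [AddCommGroup M] [Module k M] [LieRingModule S M]
    [LieModule k S M] [Module.Finite k M] (hM : ∃ (x : S) (m : M), ⁅x, m⁆ ≠ 0) :
    ∃ J : LieIdeal k S, J ≠ ⊥ ∧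
      ∀ x ∈ J, (∀ y ∈ J, traceForm k S M x y = 0) → x = 0 := by
  let I : LieIdeal k S := (toEnd k S M).ker
  have hc := I.isCompl_killingCompl
  refine ⟨I.killingCompl, ?_, ?_⟩
  · intro h
    obtain ⟨x, m, hxm⟩ := hM
    have hI : I = ⊤ := eq_top_of_isCompl_bot (h ▸ hc)
    have hx : x ∈ I := hI ▸ LieSubmodule.mem_top x
    exact hxm (LinearMap.congr_fun (LieHom.mem_ker.1 hx) m)
  · let J := I.killingCompl
    let K : LieIdeal k S :=
      { carrier := {x | x ∈ J ∧ ∀ y ∈ J, traceForm k S M x y = 0}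
        add_mem' := fun {a b} ha hb => ⟨add_mem ha.1 hb.1, fun y hy => by
          rw [map_add, LinearMap.add_apply, ha.2 y hy, hb.2 y hy, add_zero]⟩
        zero_mem' := ⟨zero_mem _, fun y _ => by rw [map_zero, LinearMap.zero_apply]⟩
        smul_mem' := fun c a ha => ⟨Submodule.smul_mem J.toSubmodule c ha.1, fun y hy => by
          rw [map_smul, LinearMap.smul_apply, ha.2 y hy, smul_zero]⟩
        lie_mem := fun {z a} ha => ⟨J.lie_mem ha.1, fun y hy => by
          rw [traceForm_apply_lie_apply', ha.2 _ (J.lie_mem hy), neg_zero]⟩ }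
    have hK : IsSolvable K := by
      refine isSolvable_of_traceForm_eq_zero (k := k) (K := K) (M := M) (fun x hx => Subtype.ext ?_) ?_
      · have h1 : (x : S) ∈ I := LieHom.mem_ker.2 (LinearMap.ext hx)
        have h2 : (x : S) ∈ I ⊓ J := ⟨h1, x.2.1⟩
        rwa [hc.disjoint.eq_bot, LieSubmodule.mem_bot] at h2
      · exact LinearMap.ext fun x => LinearMap.ext fun y => x.2.2 _ y.2.1
    intro x hxJ hx
    have : x ∈ (⊥ : LieIdeal k S) := by
      rw [← HasTrivialRadical.eq_bot_of_isSolvable K]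
      exact ⟨hxJ, hx⟩
    exact (LieSubmodule.mem_bot x).1 this

variable {X : Type w} [AddCommGroup X] [Module k X] [LieRingModule L X] [LieModule k L X]
  [Module.Finite k X]

/-- An intertwining operator into the kernel, not zero on it, produces an invariant vector. -/
theorem exists_fixed_of_operator (π : X →ₗ[k] k) (hπ : ∀ (y : L) x, π ⁅y, x⁆ = 0)
    (hsimple : ∀ U : Submodule k X, U ≤ LinearMap.ker π → (∀ (y : L), ∀ u ∈ U, ⁅y, u⁆ ∈ U) →
      U = ⊥ ∨ U = LinearMap.ker π)
    (hsurj : π ≠ 0) (C : Module.End k X) (hC : ∀ (y : L) x, C ⁅y, x⁆ = ⁅y, C x⁆)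
    (hCπ : ∀ x, π (C x) = 0) (hC0 : ∃ w ∈ LinearMap.ker π, C w ≠ 0) :
    ∃ v, π v ≠ 0 ∧ ∀ y : L, ⁅y, v⁆ = 0 := by
  let N := LinearMap.ker π
  have hinj : ∀ w ∈ N, C w = 0 → w = 0 := by
    rcases hsimple (N ⊓ LinearMap.ker C) inf_le_left
      (fun y u hu => ⟨LinearMap.mem_ker.2 (hπ y u),
        LinearMap.mem_ker.2 (by rw [hC, LinearMap.mem_ker.1 hu.2, lie_zero])⟩) with h | h
    · intro w hw hw0
      have : w ∈ N ⊓ LinearMap.ker C := ⟨hw, hw0⟩
      rwa [h, Submodule.mem_bot] at this
    · obtain ⟨w, hw, hw0⟩ := hC0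
      exact absurd (h.ge hw).2 hw0
  let CN : Module.End k N := C.restrict fun x _ => LinearMap.mem_ker.2 (hCπ x)
  have hCN : Function.Injective CN := by
    rw [← LinearMap.ker_eq_bot, Submodule.eq_bot_iff]
    rintro ⟨w, hw⟩ hw0
    exact Subtype.ext (hinj w hw (congrArg Subtype.val hw0))
  obtain ⟨x₀, hx₀⟩ : ∃ x₀, π x₀ ≠ 0 := by
    by_contra h
    push Not at h
    exact hsurj (LinearMap.ext h)
  obtain ⟨⟨w, hw⟩, hw'⟩ := LinearMap.injective_iff_surjective.1 hCN ⟨C x₀, LinearMap.mem_ker.2 (hCπ x₀)⟩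
  have hv : C (x₀ - w) = 0 := by
    rw [map_sub, sub_eq_zero]
    exact (congrArg Subtype.val hw').symm
  refine ⟨x₀ - w, by rw [map_sub, LinearMap.mem_ker.1 hw, sub_zero]; exact hx₀, fun y => ?_⟩
  exact hinj _ (LinearMap.mem_ker.2 (hπ y _)) (by rw [hC, hv, lie_zero])

omit [CharZero k] [IsAlgClosed k] in
/-- An invariant pairing gives a Casimir element commuting with the action. -/
theorem casimir_comm {J : Type*} [AddCommGroup J] [Module k J] {E : Type*} [Ring E] [Algebra k E]
    {n : ℕ} (β : LinearMap.BilinForm k J) (hβ : β.Nondegenerate) (e : Basis (Fin n) k J)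
    (ρ : J →ₗ[k] E) (D : J →ₗ[k] J) (y : E) (hρ : ∀ a, y * ρ a = ρ (D a) + ρ a * y)
    (hskew : ∀ a b, β (D a) b = - β a (D b)) :
    y * (∑ i, ρ (β.dualBasis hβ e i) * ρ (e i)) = (∑ i, ρ (β.dualBasis hβ e i) * ρ (e i)) * y := by
  set e' := β.dualBasis hβ e with he'
  have hexp' : ∀ a : J, a = ∑ j, β a (e j) • e' j := fun a => by
    conv_lhs => rw [← e'.sum_repr a]
    simp only [e', LinearMap.BilinForm.dualBasis_repr_apply]
  have hexp : ∀ a : J, a = ∑ j, β (e' j) a • e j := fun a => by
    conv_lhs => rw [← e.sum_repr a]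
    refine Finset.sum_congr rfl fun j _ => congrArg (· • e j) ?_
    have h := congrArg (β (e' j)) (e.sum_repr a)
    simp only [map_sum, map_smul, smul_eq_mul, e', LinearMap.BilinForm.apply_dualBasis_left, mul_ite,
      mul_one, mul_zero, Finset.sum_ite_eq', Finset.mem_univ, if_true] at h
    simpa [e'] using h
  have expand : y * (∑ i, ρ (e' i) * ρ (e i)) =
      (∑ i, (ρ (D (e' i)) * ρ (e i) + ρ (e' i) * ρ (D (e i)))) + (∑ i, ρ (e' i) * ρ (e i)) * y := by
    rw [Finset.mul_sum, Finset.sum_mul, ← Finset.sum_add_distrib]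
    refine Finset.sum_congr rfl fun i _ => ?_
    rw [← mul_assoc, hρ, add_mul, mul_assoc, hρ, mul_add, ← mul_assoc, ← add_assoc, mul_assoc]
  rw [expand, add_eq_right, Finset.sum_add_distrib]
  have h1 : ∀ i, ρ (D (e' i)) * ρ (e i) = ∑ j, β (D (e' i)) (e j) • (ρ (e' j) * ρ (e i)) := fun i => by
    conv_lhs => rw [hexp' (D (e' i))]
    simp only [map_sum, map_smul, Finset.sum_mul, smul_mul_assoc]
  have h2 : ∀ i, ρ (e' i) * ρ (D (e i)) = ∑ j, β (e' j) (D (e i)) • (ρ (e' i) * ρ (e j)) := fun i => by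
    conv_lhs => rw [hexp (D (e i))]
    simp only [map_sum, map_smul, Finset.mul_sum, mul_smul_comm]
  simp only [h1, h2]
  conv_lhs => arg 2; rw [Finset.sum_comm]
  rw [← Finset.sum_add_distrib]
  refine Finset.sum_eq_zero fun i _ => ?_
  rw [← Finset.sum_add_distrib]
  refine Finset.sum_eq_zero fun j _ => ?_
  rw [hskew, neg_smul, neg_add_cancel]

/-- Casimir: an extension of the trivial module by a nontrivial irreducible one splits. -/
theorem exists_fixed_of_extension {ι : Type*} (W : ι → Type w) [∀ i, AddCommGroup (W i)]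
    [∀ i, Module k (W i)] [∀ i, LieRingModule L (W i)] [∀ i, LieModule k L (W i)]
    [∀ i, Module.Finite k (W i)] [∀ i, LieModule.IsIrreducible k L (W i)]
    (hW : ∀ x : L, (∀ i (m : W i), ⁅x, m⁆ = 0) → x = 0)
    (π : X →ₗ[k] k) (hπ : ∀ (y : L) x, π ⁅y, x⁆ = 0) (hsurj : π ≠ 0)
    (hsimple : ∀ U : Submodule k X, U ≤ LinearMap.ker π → (∀ (y : L), ∀ u ∈ U, ⁅y, u⁆ ∈ U) →
      U = ⊥ ∨ U = LinearMap.ker π)
    (hnt : ∃ (y : L) (w : X), w ∈ LinearMap.ker π ∧ ⁅y, w⁆ ≠ 0) :
    ∃ v, π v ≠ 0 ∧ ∀ y : L, ⁅y, v⁆ = 0 := by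
  classical
  by_cases hz : ∃ z ∈ center k L, ∃ w ∈ LinearMap.ker π, ⁅z, w⁆ ≠ 0
  · obtain ⟨z, hz, hzw⟩ := hz
    refine exists_fixed_of_operator π hπ hsimple hsurj (toEnd k L X z) (fun y x => ?_) (hπ z) hzw
    show ⁅z, ⁅y, x⁆⁆ = ⁅y, ⁅z, x⁆⁆
    rw [leibniz_lie z y x, show ⁅z, y⁆ = 0 by
      rw [← lie_skew, (mem_maxTrivSubmodule k L L z).1 hz y, neg_zero], zero_lie, zero_add]
  push Not at hz
  let N : LieSubmodule k L X :=
    { LinearMap.ker π with lie_mem := fun {y x} _ => LinearMap.mem_ker.2 (hπ y x) }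
  haveI : HasTrivialRadical k (der k L) := hasTrivialRadical_der W hW
  have hM : ∃ (x : der k L) (m : N), ⁅x, m⁆ ≠ 0 := by
    obtain ⟨y, w, hw, hyw⟩ := hnt
    obtain ⟨z, hzc, a, ha, rfl⟩ := center_sup_der (k := k) W hW y
    rw [add_lie, hz z hzc w hw, zero_add] at hyw
    exact ⟨⟨a, ha⟩, ⟨w, hw⟩, fun h => hyw (congrArg Subtype.val h)⟩
  haveI : Module.Finite k N := inferInstanceAs (Module.Finite k (LinearMap.ker π))
  obtain ⟨J, hJ0, hJ⟩ := exists_nondegenerate_ideal (k := k) (S := der k L) (M := N) hM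
  let β : LinearMap.BilinForm k J := (traceForm k (der k L) N).restrict J.toSubmodule
  have hβs : β.IsSymm := ⟨fun a b => traceForm_comm k (der k L) N _ _⟩
  have hβ : β.Nondegenerate := by
    refine (LinearMap.IsRefl.nondegenerate_iff_separatingLeft hβs.isRefl).2 fun a ha => ?_
    exact Subtype.ext (hJ a a.2 fun y hy => ha ⟨y, hy⟩)
  let e := Module.finBasis k J
  let e' := β.dualBasis hβ e
  let ρ : J →ₗ[k] Module.End k X :=
    (toEnd k L X).toLinearMap ∘ₗ (der k L).toSubmodule.subtype ∘ₗ J.toSubmodule.subtype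
  let C : Module.End k X := ∑ i, ρ (e' i) * ρ (e i)
  have hC0 : ∃ w ∈ LinearMap.ker π, C w ≠ 0 := by
    by_contra h
    push Not at h
    have htr : trace k N (∑ i, toEnd k (der k L) N (e' i : der k L) ∘ₗ toEnd k (der k L) N (e i : der k L)) = 0 := by
      rw [show (∑ i, toEnd k (der k L) N (e' i : der k L) ∘ₗ toEnd k (der k L) N (e i : der k L)) = 0 from
        LinearMap.ext fun m => Subtype.ext (by
          rw [LinearMap.zero_apply, ZeroMemClass.coe_zero]
          refine Eq.trans ?_ (h m m.2)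
          simp only [LinearMap.coe_sum, Finset.sum_apply, AddSubmonoidClass.coe_finsetSum, C, ρ,
            LinearMap.comp_apply, Module.End.mul_apply]
          rfl), map_zero]
    rw [map_sum] at htr
    have hone : ∀ i, trace k N (toEnd k (der k L) N (e' i : der k L) ∘ₗ toEnd k (der k L) N (e i : der k L)) = 1 := by
      intro i
      have h1 := LinearMap.BilinForm.apply_dualBasis_left hβ e i i
      rw [if_pos rfl] at h1
      exact h1
    rw [Finset.sum_congr rfl (fun i _ => hone i), Finset.sum_const, Finset.card_univ, Fintype.card_fin,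
      nsmul_one, Nat.cast_eq_zero] at htr
    exact hJ0 ((LieSubmodule.toSubmodule_eq_bot J).1 ((Submodule.finrank_eq_zero (S := J.toSubmodule)).1 htr))
  refine exists_fixed_of_operator π hπ hsimple hsurj C (fun y x => ?_) (fun x => ?_) hC0
  swap
  · simp only [C, LinearMap.coe_sum, Finset.sum_apply, map_sum, Module.End.mul_apply, ρ, LinearMap.comp_apply]
    exact Finset.sum_eq_zero fun i _ => hπ _ _
  -- commutation
  obtain ⟨z, hzc, c, hc, rfl⟩ := center_sup_der (k := k) W hW y
  have hzero : ∀ a : L, ⁅z, a⁆ = 0 := fun a => by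
    rw [← lie_skew, (mem_maxTrivSubmodule k L L z).1 hzc a, neg_zero]
  let adc : J →ₗ[k] J :=
    { toFun := fun a => ⟨⁅(⟨c, hc⟩ : der k L), (a : der k L)⁆, J.lie_mem a.2⟩
      map_add' := fun a b => Subtype.ext (lie_add _ _ _)
      map_smul' := fun r a => Subtype.ext (lie_smul r _ _) }
  have hbr : ∀ a : J, toEnd k L X (z + c) * ρ a = ρ (adc a) + ρ a * toEnd k L X (z + c) := fun a =>
    LinearMap.ext fun m => by
      show ⁅z + c, ⁅((a : der k L) : L), m⁆⁆ =
        ⁅⁅c, ((a : der k L) : L)⁆, m⁆ + ⁅((a : der k L) : L), ⁅z + c, m⁆⁆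
      rw [leibniz_lie (z + c), add_lie z c, hzero, zero_add]
  have := casimir_comm β hβ e ρ adc (toEnd k L X (z + c)) hbr fun a b =>
    traceForm_apply_lie_apply' k (der k L) N _ _ _
  exact (LinearMap.congr_fun this x).symm

end Casimir

end Groth.Agent.GIT36.LinRedChar0
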